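import Groth.Agent.InvX.Tensor
import Groth.Agent.H23.PicMul
import Groth.Prelude.Def_ClSub2
import Mathlib.AlgebraicGeometry.QuasiAffine

/-!
# Ampleness and tensor powers
-/

universe u

open CategoryTheory AlgebraicGeometry TopologicalSpace
open Groth.Agent.H23.PicMul

set_option backward.isDefEq.respectTransparency false
set_option backward.isDefEq.respectTransparency.types false

namespace Groth.Agent.AmpleX

open Groth.Agent

variable {X : Scheme.{u}}

/-- Transport a section along an equality of classes. -/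
lemma exists_section_of_cl_eq {A B : X.Modules} (h : PicF.cl A = PicF.cl B) (s : Coh.structureModule X ⟶ A) :
    ∃ t : Coh.structureModule X ⟶ B, CohB1.genLocus B t = CohB1.genLocus A s :=
  let ⟨e⟩ := cl_eq_iff.1 h
  ⟨s ≫ e.hom, InvX.genLocus_comp_iso s e⟩

theorem isAmple_iff {L : X.Modules} : CohB1.IsAmple L ↔ PicF.IsInvertible L ∧ CompactSpace X ∧
    ∀ x : X, ∃ (m : ℕ) (_ : 0 < m) (s : Coh.structureModule X ⟶ CohB1.tensorPow L m),
      x ∈ CohB1.genLocus _ s ∧ IsAffineOpen (CohB1.genLocus _ s) := by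
  refine and_congr_right fun _ => and_congr_right fun _ => forall_congr' fun x => ?_
  exact ⟨fun ⟨n, s, h⟩ => ⟨n + 1, n.succ_pos, s, h⟩, fun ⟨m, hm, s, h⟩ => by
    obtain ⟨n, rfl⟩ := Nat.exists_eq_add_of_le' hm
    exact ⟨n, s, h⟩⟩

theorem isAmple_tensorPow {L : X.Modules} (h : CohB1.IsAmple L) {n : ℕ} (hn : 0 < n) :
    CohB1.IsAmple (CohB1.tensorPow L n) := by
  obtain ⟨hL, hc, hx⟩ := isAmple_iff.1 h
  refine isAmple_iff.2 ⟨InvX.isInvertible_tensorPow hL n, hc, fun x => ?_⟩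
  obtain ⟨m, hm, s, hxs, hs⟩ := hx x
  obtain ⟨k, rfl⟩ := Nat.exists_eq_add_of_le' hn
  obtain ⟨t, ht⟩ := exists_section_of_cl_eq (B := CohB1.tensorPow (CohB1.tensorPow L (k + 1)) m)
    (by simp only [cl_tensorPow, ← pow_mul, mul_comm]) (InvX.powHom s (k + 1))
  rw [InvX.genLocus_powHom (InvX.isInvertible_tensorPow hL m) s k] at ht
  exact ⟨m, hm, t, ht ▸ hxs, ht ▸ hs⟩

theorem isAmple_of_tensorPow {L : X.Modules} (hL : PicF.IsInvertible L) {n : ℕ} (hn : 0 < n)
    (h : CohB1.IsAmple (CohB1.tensorPow L n)) : CohB1.IsAmple L := by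
  obtain ⟨-, hc, hx⟩ := isAmple_iff.1 h
  refine isAmple_iff.2 ⟨hL, hc, fun x => ?_⟩
  obtain ⟨m, hm, s, hxs, hs⟩ := hx x
  obtain ⟨t, ht⟩ := exists_section_of_cl_eq (B := CohB1.tensorPow L (n * m))
    (by simp only [cl_tensorPow, ← pow_mul]) s
  exact ⟨n * m, Nat.mul_pos hn hm, t, ht ▸ hxs, ht ▸ hs⟩

theorem isQuasiAffine_of_inverse {L L' : X.Modules} (hinv : ClSub.IsInverseOf L L')
    (h : CohB1.IsAmple L) (h' : CohB1.IsAmple L') : X.IsQuasiAffine := by
  obtain ⟨hL, hc, hx⟩ := isAmple_iff.1 h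
  obtain ⟨hL', -, hx'⟩ := isAmple_iff.1 h'
  refine Scheme.IsQuasiAffine.of_forall_exists_mem_basicOpen X fun x => ?_
  obtain ⟨a, ha, s, hxs, hs⟩ := hx x
  obtain ⟨b, hb, t, hxt, -⟩ := hx' x
  obtain ⟨k, rfl⟩ := Nat.exists_eq_add_of_le' ha
  obtain ⟨l, rfl⟩ := Nat.exists_eq_add_of_le' hb
  let S := InvX.powHom s (l + 1)
  let T := InvX.powHom t (k + 1)
  have hcl : PicF.cl (CohB1.tensorMod (CohB1.tensorPow (CohB1.tensorPow L (k + 1)) (l + 1))
      (CohB1.tensorPow (CohB1.tensorPow L' (l + 1)) (k + 1))) = PicF.cl (Coh.structureModule X) := by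
    have hone : PicF.cl L * PicF.cl L' = 1 := cl_eq_iff.2 hinv
    rw [cl_tensor, cl_tensorPow, cl_tensorPow, cl_tensorPow, cl_tensorPow, ← pow_mul, ← pow_mul,
      mul_comm (l + 1) (k + 1), ← mul_pow, hone, one_pow, one_def]
  obtain ⟨g, hg⟩ := exists_section_of_cl_eq hcl (InvX.mulHom S T)
  rw [InvX.genLocus_mulHom (InvX.isInvertible_tensorPow (InvX.isInvertible_tensorPow hL _) _)
      (InvX.isInvertible_tensorPow (InvX.isInvertible_tensorPow hL' _) _),
    InvX.genLocus_powHom (InvX.isInvertible_tensorPow hL _),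
    InvX.genLocus_powHom (InvX.isInvertible_tensorPow hL' _)] at hg
  obtain ⟨c, hc'⟩ := (InvX.isFrame_one (X := X) ⊤).exists_coord le_rfl
    (AModX.res _ (le_top : (⊤ : X.Opens) ≤ ⊤) (InvX.one g))
  rw [AModX.res_self] at hc'
  have hb' := InvX.genLocus_inf g (InvX.isFrame_one (X := X) ⊤) (g := c)
    (by rw [AModX.res_self] at hc' ⊢; exact hc')
  rw [inf_top_eq, hg] at hb'
  refine ⟨c, hb' ▸ ?_, hb' ▸ ⟨hxs, hxt⟩⟩
  haveI := InvX.isAffineHom_genLocus_ι (InvX.isInvertible_tensorPow hL' (l + 1)) t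
  have := (hs.preimage (CohB1.genLocus (CohB1.tensorPow L' (l + 1)) t).ι).image_of_isOpenImmersion
    (CohB1.genLocus (CohB1.tensorPow L' (l + 1)) t).ι
  rwa [Scheme.Hom.image_preimage_eq_opensRange_inf, Scheme.Opens.opensRange_ι, inf_comm] at this

end Groth.Agent.AmpleX
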