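import Groth.Agent.AmpleX.Extend
import Groth.Agent.AmpleX.Pow
import Groth.Agent.H23.PullPush
import Groth.Agent.QCoh.LocFree

/-!
# Ample modules: generating loci form a basis; products
-/

universe u

open CategoryTheory AlgebraicGeometry TopologicalSpace
open Groth.Agent.H23.PicMul

set_option backward.isDefEq.respectTransparency false
set_option backward.isDefEq.respectTransparency.types false

namespace Groth.Agent.AmpleX

open Groth.Agent

variable {X : Scheme.{u}}

lemma isAffineOpen_inf_genLocus {L : X.Modules} (hL : PicF.IsInvertible L) {V : X.Opens} (hV : IsAffineOpen V)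
    (s : Coh.structureModule X ⟶ L) : IsAffineOpen (V ⊓ CohB1.genLocus L s) := by
  haveI := InvX.isAffineHom_genLocus_ι hL s
  have := (hV.preimage (CohB1.genLocus L s).ι).image_of_isOpenImmersion (CohB1.genLocus L s).ι
  rwa [Scheme.Hom.image_preimage_eq_opensRange_inf, Scheme.Opens.opensRange_ι, inf_comm] at this

theorem isQCoh_one (X : Scheme.{u}) : Coh.IsQCoh (Coh.structureModule X) :=
  QCoh.isQCoh_of_isFinLocFree (H23.PullPush.isFinLocFree_of_isInvertible InvX.isInvertible_structureModule)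

/-- An ample module has arbitrarily small affine generating loci. -/
theorem exists_genLocus_le [X.IsSeparated] {L : X.Modules} (h : CohB1.IsAmple L) {x : X} {U : X.Opens}
    (hxU : x ∈ U) : ∃ (m : ℕ) (_ : 0 < m) (s : Coh.structureModule X ⟶ CohB1.tensorPow L m),
      x ∈ CohB1.genLocus _ s ∧ CohB1.genLocus _ s ≤ U ∧ IsAffineOpen (CohB1.genLocus _ s) := by
  obtain ⟨hL, hc, hx⟩ := isAmple_iff.1 h
  obtain ⟨a, ha, s, hxs, hs⟩ := hx x
  obtain ⟨f, hf, hxf⟩ := hs.exists_basicOpen_le ⟨x, hxU⟩ hxs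
  let G := CohB1.genLocus (CohB1.tensorPow L a) s
  have hLa := InvX.isInvertible_tensorPow hL a
  obtain ⟨n₀, hn₀⟩ := exists_extend (M := Coh.structureModule X)
    (isQCoh_one X) hLa s (show Γ(Coh.structureModule X, G) from f)
  obtain ⟨T, hT⟩ := hn₀ n₀ le_rfl
  let S := InvX.mulHom (InvX.ofSect T) s
  let P := CohB1.tensorMod (Coh.structureModule X) (CohB1.tensorPow (CohB1.tensorPow L a) n₀)
  have hP : PicF.IsInvertible P :=
    InvX.isInvertible_tensorMod InvX.isInvertible_structureModule (InvX.isInvertible_tensorPow hLa n₀)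
  have hfr : InvX.IsFrame (InvX.tmul (M := Coh.structureModule X)
      (show Γ(Coh.structureModule X, G) from (1 : Γ(X, G)))
      (powElt (AModX.res _ (le_top : G ≤ ⊤) (InvX.one s)) n₀)) := by
    refine InvX.isFrame_tmul (InvX.isFrame_one G) (isFrame_powElt ?_ n₀)
    refine InvX.isFrame_of_germ fun y hy => ?_
    obtain ⟨W, hyW, hW⟩ := InvX.mem_genLocus hy
    have := hW.germ_bijective hyW
    rw [InvX.germ_res'] at this ⊢
    exact this
  have hG : CohB1.genLocus _ S = X.basicOpen f := by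
    rw [InvX.genLocus_mulHom hP hLa]
    refine InvX.genLocus_inf (InvX.ofSect T) hfr ?_
    rw [InvX.one_ofSect, hT, ← InvX.tmul_smul_left]
    exact congrArg (fun z => InvX.tmul z _) (mul_one f).symm
  obtain ⟨t, ht⟩ := exists_section_of_cl_eq (B := CohB1.tensorPow L (a * n₀ + a))
    (by rw [cl_tensor, cl_tensor, cl_tensorPow, cl_tensorPow, cl_tensorPow, ← one_def, one_mul,
      pow_add, pow_mul]) S
  refine ⟨a * n₀ + a, Nat.add_pos_right _ ha, t, ?_⟩
  rw [ht, hG]
  exact ⟨hxf, hf, hs.basicOpen f⟩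

theorem isAmple_iff_isTopologicalBasis [CompactSpace X] [X.IsSeparated] {L : X.Modules}
    (hL : PicF.IsInvertible L) :
    CohB1.IsAmple L ↔ IsTopologicalBasis
      {U : Set X | ∃ (n : ℕ) (s : Coh.structureModule X ⟶ CohB1.tensorPow L (n + 1)),
        U = (CohB1.genLocus (CohB1.tensorPow L (n + 1)) s : Set X)} := by
  constructor
  · intro h
    refine isTopologicalBasis_of_isOpen_of_nhds ?_ fun x U hxU hU => ?_
    · rintro _ ⟨n, s, rfl⟩
      exact (CohB1.genLocus _ s).2
    · obtain ⟨m, hm, s, hxs, hle, -⟩ := exists_genLocus_le h (U := ⟨U, hU⟩) hxU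
      obtain ⟨k, rfl⟩ := Nat.exists_eq_add_of_le' hm
      exact ⟨_, ⟨k, s, rfl⟩, hxs, hle⟩
  · intro hb
    refine ⟨hL, inferInstance, fun x => ?_⟩
    obtain ⟨_, ⟨V, hV, rfl⟩, hxV, -⟩ :=
      X.isBasis_affineOpens.exists_subset_of_mem_open (Set.mem_univ x) isOpen_univ
    obtain ⟨_, ⟨n, s, rfl⟩, hxs, hle⟩ := hb.exists_subset_of_mem_open hxV (V : X.Opens).2
    refine ⟨n, s, hxs, ?_⟩
    have := isAffineOpen_inf_genLocus (InvX.isInvertible_tensorPow hL (n + 1)) (show IsAffineOpen V from hV) s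
    rwa [inf_eq_right.2 (show CohB1.genLocus _ s ≤ V from hle)] at this

theorem isAmple_tensor {L L' : X.Modules} (h : CohB1.IsAmple L) (hL' : PicF.IsInvertible L')
    (h' : ∀ x : X, ∃ (n : ℕ) (s' : Coh.structureModule X ⟶ CohB1.tensorPow L' (n + 1)),
      x ∈ CohB1.genLocus _ s') : CohB1.IsAmple (CohB1.tensorMod L L') := by
  obtain ⟨hL, hc, hx⟩ := isAmple_iff.1 h
  refine isAmple_iff.2 ⟨InvX.isInvertible_tensorMod hL hL', hc, fun x => ?_⟩
  obtain ⟨a, ha, s, hxs, hs⟩ := hx x
  obtain ⟨b, s', hxs'⟩ := h' x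
  obtain ⟨k, rfl⟩ := Nat.exists_eq_add_of_le' ha
  let S := InvX.mulHom (InvX.powHom s (b + 1)) (InvX.powHom s' (k + 1))
  obtain ⟨t, ht⟩ := exists_section_of_cl_eq
    (B := CohB1.tensorPow (CohB1.tensorMod L L') ((k + 1) * (b + 1)))
    (by rw [cl_tensor, cl_tensorPow, cl_tensorPow, cl_tensorPow, cl_tensorPow, cl_tensorPow, cl_tensor,
      mul_pow, ← pow_mul, ← pow_mul, mul_comm (b + 1) (k + 1)]) S
  rw [InvX.genLocus_mulHom (InvX.isInvertible_tensorPow (InvX.isInvertible_tensorPow hL _) _)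
      (InvX.isInvertible_tensorPow (InvX.isInvertible_tensorPow hL' _) _),
    InvX.genLocus_powHom (InvX.isInvertible_tensorPow hL _),
    InvX.genLocus_powHom (InvX.isInvertible_tensorPow hL' _)] at ht
  exact ⟨_, Nat.mul_pos k.succ_pos b.succ_pos, t, ht ▸ ⟨hxs, hxs'⟩,
    ht ▸ isAffineOpen_inf_genLocus (InvX.isInvertible_tensorPow hL' _) hs s'⟩

end Groth.Agent.AmpleX
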