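import Groth.Agent.AmpleX.FiniteSet
import Groth.Agent.InvX.GenEpi
import Groth.Agent.KFlatLib.Scheme.QCohTensor
import Groth.Agent.QCoh.FT
import Groth.Agent.ProjUPX.Affine

/-!
# Twisting by large powers of an ample module gives globally generated modules
-/

universe u

open CategoryTheory AlgebraicGeometry TopologicalSpace Opposite MonoidalCategory
open scoped TensorProduct
open Groth.Agent.H23.PicMul

set_option backward.isDefEq.respectTransparency false
set_option backward.isDefEq.respectTransparency.types false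
set_option linter.style.haveILetI false

namespace Groth.Agent.AmpleX

open Groth.Agent

variable {X : Scheme.{u}} {F M N L : X.Modules}

/-- Tensoring a spanning family of germs with a frame gives a spanning family. -/
theorem span_germ_tmul_eq_top {U : X.Opens} {x : X} (hx : x ∈ U) {ι : Type*} (t : ι → Γ(M, U))
    (ht : Submodule.span (X.presheaf.stalk x) (Set.range fun i => M.presheaf.germ U x hx (t i)) = ⊤)
    {e : Γ(N, U)} (he : InvX.IsFrame e) :
    Submodule.span (X.presheaf.stalk x)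
      (Set.range fun i => (CohB1.tensorMod M N).presheaf.germ U x hx (InvX.tmul (t i) e)) = ⊤ := by
  let P := CohB1.toPMod M
  let Q := CohB1.toPMod N
  haveI hi := KFlatLib.isIso_stalk_unitShP (x := x) (P ⊗ Q)
  let u : KFlatLib.stalkMod x (P ⊗ Q) →ₗ[X.presheaf.stalk x]
      KFlatLib.stalkMod x (DCoh.toP.obj (DCoh.shP.obj (P ⊗ Q))) :=
    ((KFlatLib.stalkP x).map (KFlatLib.unitShP (P ⊗ Q))).hom
  let ψ := u ∘ₗ (KFlatLib.tensorStalkEquiv P Q).toLinearMap
  have hψ : Function.Surjective ψ :=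
    (ConcreteCategory.bijective_of_isIso ((KFlatLib.stalkP x).map (KFlatLib.unitShP (P ⊗ Q)))).2.comp
      (KFlatLib.tensorStalkEquiv P Q).surjective
  have key : ∀ i, ψ (KFlatLib.germP P U hx (t i) ⊗ₜ KFlatLib.germP Q U hx e) =
      (CohB1.tensorMod M N).presheaf.germ U x hx (InvX.tmul (t i) e) := fun i =>
    (congrArg u (KFlatLib.ofTensor_germ U hx _ _)).trans (KFlatLib.stalkModMap_germ _ U hx _)
  refine eq_top_iff.2 fun z _ => ?_
  obtain ⟨w, hw⟩ := hψ z
  rw [← hw]
  induction w using TensorProduct.induction_on generalizing z with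
  | zero => rw [map_zero]; exact zero_mem _
  | add a b ha hb => rw [map_add]; exact add_mem (ha _ trivial rfl) (hb _ trivial rfl)
  | tmul m n =>
    obtain ⟨c, rfl⟩ := (he.germ_bijective hx).2 n
    have hm : m ∈ Submodule.span (X.presheaf.stalk x) (Set.range fun i => M.presheaf.germ U x hx (t i)) :=
      ht.symm ▸ trivial
    clear hw
    induction hm using Submodule.span_induction with
    | mem m hm =>
      obtain ⟨i, rfl⟩ := hm
      show ψ (KFlatLib.germP P U hx (t i) ⊗ₜ (c • KFlatLib.germP Q U hx e)) ∈ _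
      rw [TensorProduct.tmul_smul, map_smul, key]
      exact Submodule.smul_mem _ _ (Submodule.subset_span ⟨i, rfl⟩)
    | zero => rw [TensorProduct.zero_tmul, map_zero]; exact zero_mem _
    | add a b _ _ ha hb => rw [TensorProduct.add_tmul, map_add]; exact add_mem ha hb
    | smul a b _ hb => rw [← TensorProduct.smul_tmul', map_smul]; exact Submodule.smul_mem _ a hb

theorem isGloballyGenerated_of_iso (e : M ≅ N) (h : Curv2.IsGloballyGenerated M) :
    Curv2.IsGloballyGenerated N := by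
  obtain ⟨ι, p, hp⟩ := h
  exact ⟨ι, p ≫ e.hom, inferInstance⟩

/-- Sections of the same positive degree with small affine generating loci covering `X`. -/
theorem exists_cover_genLocus [CompactSpace X] [X.IsSeparated] (hL : CohB1.IsAmple L) :
    ∃ (a : ℕ) (_ : 0 < a) (κ : Type u) (_ : Fintype κ)
      (σ : κ → (Coh.structureModule X ⟶ CohB1.tensorPow L a)),
      (∀ k, IsAffineOpen (CohB1.genLocus _ (σ k))) ∧
      (∀ k, ∃ e : Γ(L, CohB1.genLocus _ (σ k)), InvX.IsFrame e) ∧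
      ∀ x : X, ∃ k, x ∈ CohB1.genLocus _ (σ k) := by
  classical
  have hloc : ∀ x : X, ∃ (m : ℕ) (_ : 0 < m) (s : Coh.structureModule X ⟶ CohB1.tensorPow L m),
      x ∈ CohB1.genLocus _ s ∧ IsAffineOpen (CohB1.genLocus _ s) ∧
        ∃ e : Γ(L, CohB1.genLocus _ s), InvX.IsFrame e := fun x => by
    obtain ⟨U, hxU, e, he⟩ := InvX.exists_frame hL.1 x
    obtain ⟨m, hm, s, hxs, hle, hs⟩ := exists_genLocus_le hL hxU
    exact ⟨m, hm, s, hxs, hs, _, he.res hle⟩
  choose m hm s hxs hs he using hloc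
  obtain ⟨S, hS⟩ := isCompact_univ.elim_finite_subcover
    (fun x => (CohB1.genLocus _ (s x) : Set X)) (fun x => (CohB1.genLocus _ (s x)).2)
    (fun x _ => Set.mem_iUnion.2 ⟨x, hxs x⟩)
  let a := ∏ x ∈ S, m x
  have ha : 0 < a := Finset.prod_pos fun x _ => hm x
  have hpow : ∀ x : S, ∃ t : Coh.structureModule X ⟶ CohB1.tensorPow L a,
      CohB1.genLocus _ t = CohB1.genLocus _ (s x) := fun x => by
    obtain ⟨c, hc⟩ : m x ∣ a := Finset.dvd_prod_of_mem _ x.2
    obtain ⟨k, rfl⟩ : ∃ k, c = k + 1 := Nat.exists_eq_add_of_le'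
      (Nat.pos_of_ne_zero fun h0 => by rw [h0, mul_zero] at hc; exact ha.ne' hc)
    obtain ⟨t, ht⟩ := exists_section_of_cl_eq (B := CohB1.tensorPow L a)
      (by rw [cl_tensorPow, cl_tensorPow, cl_tensorPow, ← pow_mul, hc]) (InvX.powHom (s x) (k + 1))
    exact ⟨t, ht.trans (InvX.genLocus_powHom (InvX.isInvertible_tensorPow hL.1 _) _ k)⟩
  choose t ht using hpow
  refine ⟨a, ha, S, inferInstance, t, fun x => (ht x).symm ▸ hs x, fun x => (ht x).symm ▸ he x, fun x => ?_⟩
  obtain ⟨y, hy, hxy⟩ := Set.mem_iUnion₂.1 (hS (Set.mem_univ x))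
  exact ⟨⟨y, hy⟩, (ht ⟨y, hy⟩).symm ▸ hxy⟩

theorem eventually_generated_finite [CompactSpace X] [X.IsSeparated] (hL : CohB1.IsAmple L)
    (hq : Coh.IsQCoh F) (hft : CohB1.IsFT F) :
    ∃ n₀ : ℕ, ∀ n, n₀ ≤ n → ∃ (G : X.Modules) (_ : G ≅ CohB1.tensorMod F (CohB1.tensorPow L n))
      (ι : Type u) (_ : Finite ι) (s : ι → Γ(G, ⊤)), ProjUP.GeneratedBy G s := by
  classical
  obtain ⟨a, ha, κ, _, σ, hσ, he, hcov⟩ := exists_cover_genLocus hL
  choose e he using he
  have hgen : ∀ k, ∃ (J : ℕ) (t : Fin J → Γ(F, CohB1.genLocus _ (σ k))),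
      ∀ (x : X) (hx : x ∈ CohB1.genLocus _ (σ k)), Submodule.span (X.presheaf.stalk x)
        (Set.range fun j => F.presheaf.germ (CohB1.genLocus _ (σ k)) x hx (t j)) = ⊤ := fun k => by
    have hG := hσ k
    obtain ⟨J, t, ht⟩ := Submodule.fg_iff_exists_fin_generating_family.1
      (QCoh.finite_of_isFT hq hft hG).fg_top
    refine ⟨J, t, fun x hx => ?_⟩
    letI := QCoh.stalkAlg (X := X) hx
    letI := QCoh.stalkModule F hx
    haveI := QCoh.isScalarTower_stalk F hx
    haveI := QCoh.isLocalization_stalk' hG hx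
    haveI := QCoh.isLocalizedModule_germLin hq hG hx
    have h1 : Submodule.localized' (X.presheaf.stalk x) (hG.primeIdealOf ⟨x, hx⟩).asIdeal.primeCompl
        (QCoh.germLin F hx) (Submodule.span Γ(X, CohB1.genLocus _ (σ k)) (Set.range t)) = ⊤ := by
      rw [ht, Submodule.localized'_top]
    rw [Submodule.localized'_span, ← Set.range_comp] at h1
    exact h1
  choose J t ht using hgen
  let F' := fun r : Fin a => CohB1.tensorMod F (CohB1.tensorPow L r)
  have hF' : ∀ r, Coh.IsQCoh (F' r) := fun r => KFlatLib.isQCoh_tensor hq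
    (ProjUPX.isQCoh_of_isInvertible (InvX.isInvertible_tensorPow hL.1 _))
  have hext := fun (r : Fin a) (p : Σ k, Fin (J k)) => exists_extend (hF' r)
    (InvX.isInvertible_tensorPow hL.1 a) (σ p.1) (InvX.tmul (t p.1 p.2) (powElt (e p.1) (r : ℕ)))
  choose q hq' using hext
  let Q := Finset.univ.sup fun r => Finset.univ.sup (q r)
  refine ⟨a * (Q + 1), fun n hn => ?_⟩
  let r : Fin a := ⟨n % a, Nat.mod_lt _ ha⟩
  have hQ : Q ≤ n / a := by
    refine (Nat.le_div_iff_mul_le ha).2 (le_trans ?_ hn)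
    rw [mul_comm a]
    exact Nat.mul_le_mul_right a (Nat.le_succ Q)
  choose T hT using fun p => hq' r p (n / a)
    ((Finset.le_sup (f := q r) (Finset.mem_univ p)).trans
      ((Finset.le_sup (f := fun r => Finset.univ.sup (q r)) (Finset.mem_univ r)).trans hQ))
  obtain ⟨iso⟩ : Nonempty (CohB1.tensorMod (F' r) (CohB1.tensorPow (CohB1.tensorPow L a) (n / a)) ≅
      CohB1.tensorMod F (CohB1.tensorPow L n)) := cl_eq_iff.1 (by
    rw [cl_tensor, cl_tensor, cl_tensor, cl_tensorPow, cl_tensorPow, cl_tensorPow, cl_tensorPow,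
      mul_assoc, ← pow_mul, ← pow_add, Nat.mod_add_div])
  refine ⟨_, iso, ?_⟩
  let T' : ULift.{u} (Σ k, Fin (J k)) → Γ(CohB1.tensorMod (F' r) (CohB1.tensorPow (CohB1.tensorPow L a) (n / a)), ⊤) :=
    fun p => T p.down
  refine ⟨_, inferInstance, T', fun x => ?_⟩
  obtain ⟨k, hxk⟩ := hcov x
  have h1 := span_germ_tmul_eq_top hxk (fun j => InvX.tmul (t k j) (powElt (e k) (r : ℕ)))
    (span_germ_tmul_eq_top hxk (t k) (ht k x hxk) (isFrame_powElt (he k) _))
    (isFrame_powElt (res_genLocus_frame (σ k)) (n / a))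
  refine top_le_iff.1 (h1.ge.trans (Submodule.span_le.2 ?_))
  rintro _ ⟨j, rfl⟩
  refine Submodule.subset_span ⟨⟨⟨k, j⟩⟩, ?_⟩
  show ((CohB1.tensorMod (F' r) (CohB1.tensorPow (CohB1.tensorPow L a) (n / a))).presheaf.germ ⊤ x trivial).hom
    (T ⟨k, j⟩) = _
  exact (InvX.germ_res' le_top hxk (T ⟨k, j⟩)).symm.trans
    (congrArg (fun z => (CohB1.tensorMod (F' r) (CohB1.tensorPow (CohB1.tensorPow L a) (n / a))).presheaf.germ
      (CohB1.genLocus _ (σ k)) x hxk z) (hT ⟨k, j⟩))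

theorem eventually_generated [CompactSpace X] [X.IsSeparated] (hL : CohB1.IsAmple L)
    (hq : Coh.IsQCoh F) (hft : CohB1.IsFT F) :
    ∃ n₀ : ℕ, ∀ n, n₀ ≤ n → ∃ (G : X.Modules) (_ : G ≅ CohB1.tensorMod F (CohB1.tensorPow L n))
      (ι : Type u) (s : ι → Γ(G, ⊤)), ProjUP.GeneratedBy G s := by
  obtain ⟨n₀, h⟩ := eventually_generated_finite hL hq hft
  exact ⟨n₀, fun n hn => let ⟨G, iso, ι, _, s, hs⟩ := h n hn; ⟨G, iso, ι, s, hs⟩⟩

theorem eventually_isGloballyGenerated [CompactSpace X] [X.IsSeparated] (hL : CohB1.IsAmple L)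
    (hq : Coh.IsQCoh F) (hft : CohB1.IsFT F) :
    ∃ n₀ : ℕ, ∀ n, n₀ ≤ n → Curv2.IsGloballyGenerated (CohB1.tensorMod F (CohB1.tensorPow L n)) := by
  obtain ⟨n₀, h⟩ := eventually_generated hL hq hft
  refine ⟨n₀, fun n hn => ?_⟩
  obtain ⟨G, iso, ι, s, hs⟩ := h n hn
  exact isGloballyGenerated_of_iso iso (InvX.isGloballyGenerated_of_generated hs)

/-- Large twists of an invertible module by an ample one are generated and ample. -/
theorem eventually_ample_tensor [CompactSpace X] [X.IsSeparated] (hL : CohB1.IsAmple L)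
    (hM : PicF.IsInvertible M) :
    ∃ n₀ : ℕ, 0 < n₀ ∧ ∀ n, n₀ ≤ n → CohB1.IsAmple (CohB1.tensorMod (CohB1.tensorPow L n) M) ∧
      Curv2.IsGloballyGenerated (CohB1.tensorMod (CohB1.tensorPow L n) M) := by
  have hft : CohB1.IsFT M :=
    QCoh.isFT_of_isFP (QCoh.isFP_of_isFinLocFree (H23.PullPush.isFinLocFree_of_isInvertible hM))
  obtain ⟨n₀, h⟩ := eventually_generated hL (ProjUPX.isQCoh_of_isInvertible hM) hft
  refine ⟨n₀ + 1, Nat.succ_pos _, fun n hn => ?_⟩
  obtain ⟨k, rfl⟩ := Nat.exists_eq_add_of_le' (show 1 ≤ n by omega)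
  constructor
  · obtain ⟨G, iso, ι, s, hs⟩ := h k (by omega)
    have hMk : PicF.IsInvertible (CohB1.tensorMod M (CohB1.tensorPow L k)) :=
      InvX.isInvertible_tensorMod hM (InvX.isInvertible_tensorPow hL.1 k)
    have hG : PicF.IsInvertible G := H23.PicMul.isInvertible_of_iso iso.symm hMk
    obtain ⟨e⟩ := cl_eq_iff.1 (show PicF.cl (CohB1.tensorMod L (CohB1.tensorMod M (CohB1.tensorPow L k))) =
        PicF.cl (CohB1.tensorMod (CohB1.tensorPow L (k + 1)) M) by
      rw [cl_tensor, cl_tensor, cl_tensor, cl_tensorPow, cl_tensorPow, pow_succ]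
      ac_rfl)
    refine isAmple_of_iso e (isAmple_tensor hL hMk fun x => ⟨0, ?_⟩)
    obtain ⟨i, U, hx, hU⟩ := InvX.exists_frame_of_generated hG s x (hs x)
    obtain ⟨t, ht⟩ := exists_section_of_cl_eq (B := CohB1.tensorPow (CohB1.tensorMod M (CohB1.tensorPow L k)) 1)
      (by rw [cl_tensorPow, pow_one]; exact cl_eq_iff.2 ⟨iso⟩) (InvX.ofSect (s i))
    exact ⟨t, ht.symm ▸ InvX.le_genLocus _ (by rw [InvX.one_ofSect]; exact hU) hx⟩
  · obtain ⟨G, iso, ι, s, hs⟩ := h (k + 1) (by omega)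
    obtain ⟨e⟩ := H23.PicMul.comm M (CohB1.tensorPow L (k + 1))
    exact isGloballyGenerated_of_iso (iso ≪≫ e) (InvX.isGloballyGenerated_of_generated hs)
where
  isAmple_of_iso {A B : X.Modules} (e : A ≅ B) (h : CohB1.IsAmple A) : CohB1.IsAmple B := by
    obtain ⟨hA, hc, hx⟩ := isAmple_iff.1 h
    refine isAmple_iff.2 ⟨H23.PicMul.isInvertible_of_iso e hA, hc, fun x => ?_⟩
    obtain ⟨m, hm, s, hxs, hs⟩ := hx x
    obtain ⟨t, ht⟩ := exists_section_of_cl_eq (B := CohB1.tensorPow B m)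
      (by rw [cl_tensorPow, cl_tensorPow, cl_eq_iff.2 ⟨e⟩]) s
    exact ⟨m, hm, t, ht ▸ hxs, ht ▸ hs⟩

end Groth.Agent.AmpleX
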