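import Groth.Agent.InvX.Tensor
import Groth.Agent.QCoh.Qcqs
import Groth.Agent.ProjUPX.Affine
import Mathlib.AlgebraicGeometry.QuasiAffine

/-!
# Ample modules and quasi-affine schemes
-/

universe u

open CategoryTheory AlgebraicGeometry TopologicalSpace

set_option backward.isDefEq.respectTransparency false
set_option backward.isDefEq.respectTransparency.types false

namespace Groth.Agent.AmpleX

open Groth.Agent

variable {X : Scheme.{u}}

/-- A frame on a basic open comes from a global section. -/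
theorem exists_genLocus_eq_basicOpen [CompactSpace X] [QuasiSeparatedSpace X] {L : X.Modules}
    (hL : PicF.IsInvertible L) (f : Γ(X, ⊤)) {e : Γ(L, X.basicOpen f)} (he : InvX.IsFrame e) :
    ∃ s : Coh.structureModule X ⟶ L, CohB1.genLocus L s = X.basicOpen f := by
  obtain ⟨n, t, ht⟩ := QCoh.exists_pow_smul_eq_map_of_isQuasiSeparated
    (ProjUPX.isQCoh_of_isInvertible hL) (W := (⊤ : X.Opens)) isCompact_univ isQuasiSeparated_univ f e
  let D := X.basicOpen f
  have hu : IsUnit (AModX.resR (le_top : D ≤ ⊤) f) := AModX.isUnit_resR _ _ le_rfl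
  refine ⟨InvX.ofSect (f • t), le_antisymm (fun x hx => ?_) (InvX.le_genLocus _ ?_)⟩
  · obtain ⟨U, hxU, hU⟩ := InvX.mem_genLocus hx
    rw [InvX.one_ofSect, AModX.res_smul] at hU
    obtain ⟨c, hc⟩ := hU.exists_coord le_rfl (AModX.res L (le_top : U ≤ ⊤) t)
    rw [AModX.res_self] at hc
    have h1 : AModX.resR (le_top : U ≤ ⊤) f * c = 1 := by
      refine hU.coord_unique le_rfl ?_
      rw [AModX.res_self, one_smul, mul_smul, ← hc]
    have hb := X.basicOpen_of_isUnit (IsUnit.of_mul_eq_one _ h1)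
    rw [show AModX.resR (le_top : U ≤ ⊤) f = X.presheaf.map (homOfLE le_top).op f from rfl,
      Scheme.basicOpen_res] at hb
    exact (hb.ge hxU).2
  · rw [InvX.one_ofSect, AModX.res_smul,
      show AModX.res L (le_top : D ≤ ⊤) t = AModX.resR (le_top : D ≤ ⊤) f ^ n • e from ht]
    exact (he.isUnit_smul (hu.pow n)).isUnit_smul hu

theorem isAmple_of_isQuasiAffine [X.IsQuasiAffine] {L : X.Modules} (hL : PicF.IsInvertible L) :
    CohB1.IsAmple L := by
  refine ⟨hL, inferInstance, fun x => ?_⟩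
  obtain ⟨U, hxU, e, he⟩ := InvX.exists_frame hL x
  obtain ⟨_, ⟨_, ⟨f, hf, rfl⟩, rfl⟩, hxf, hle⟩ :=
    (Scheme.IsQuasiAffine.isBasis_basicOpen X).exists_subset_of_mem_open (show x ∈ U from hxU) U.2
  obtain ⟨s, hs⟩ := exists_genLocus_eq_basicOpen hL f (he.res (show X.basicOpen f ≤ U from hle))
  refine ⟨0, InvX.powHom s 1, ?_⟩
  rw [InvX.genLocus_powHom hL s 0, hs]
  exact ⟨hxf, hf⟩

/-- The canonical global frame of a tensor power of the structure sheaf. -/
theorem exists_frame_tensorPow_structureModule : ∀ n : ℕ,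
    ∃ e : Γ(CohB1.tensorPow (Coh.structureModule X) n, ⊤), InvX.IsFrame e
  | 0 => ⟨_, InvX.isFrame_one ⊤⟩
  | n + 1 => by
    obtain ⟨e, he⟩ := exists_frame_tensorPow_structureModule n
    exact ⟨_, InvX.isFrame_tmul he (InvX.isFrame_one ⊤)⟩

theorem isQuasiAffine_of_isAmple (h : CohB1.IsAmple (Coh.structureModule X)) : X.IsQuasiAffine := by
  haveI := h.2.1
  refine Scheme.IsQuasiAffine.of_forall_exists_mem_basicOpen X fun x => ?_
  obtain ⟨n, s, hx, hs⟩ := h.2.2 x
  obtain ⟨e, he⟩ := exists_frame_tensorPow_structureModule (X := X) (n + 1)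
  obtain ⟨g, hg⟩ := he.exists_coord le_rfl (AModX.res _ (le_top : (⊤ : X.Opens) ≤ ⊤) (InvX.one s))
  rw [AModX.res_self] at hg
  have := InvX.genLocus_inf s he (g := g) (by rw [AModX.res_self] at hg ⊢; exact hg)
  rw [inf_top_eq] at this
  exact ⟨g, this ▸ hs, this ▸ hx⟩

end Groth.Agent.AmpleX
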