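import Groth.Agent.AmpleX.Rel
import Groth.Agent.AmpleX.QuasiAffine
import Groth.Prelude.Def_Mor2

/-!
# Quasi-affine morphisms
-/

universe u

open CategoryTheory CategoryTheory.Limits AlgebraicGeometry TopologicalSpace

set_option backward.isDefEq.respectTransparency false
set_option backward.isDefEq.respectTransparency.types false

namespace Groth.Agent.AmpleX

open Groth.Agent

variable {X Y Z : Scheme.{u}}

/-- An open subscheme is quasi-affine iff it is compact and its affine basic opens cover it. -/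
theorem qa_opens_iff (W : X.Opens) :
    (W : Scheme.{u}).IsQuasiAffine ↔
      IsCompact (W : Set X) ∧ ∀ x ∈ W, ∃ r : Γ(X, W), IsAffineOpen (X.basicOpen r) ∧ x ∈ X.basicOpen r := by
  constructor
  · intro h
    refine ⟨isCompact_iff_compactSpace.mpr (show CompactSpace W from inferInstanceAs (CompactSpace (W : Scheme.{u}))), fun x hx => ?_⟩
    obtain ⟨_, ⟨_, ⟨r, hr, rfl⟩, rfl⟩, hxr, -⟩ :=
      (Scheme.IsQuasiAffine.isBasis_basicOpen (W : Scheme.{u})).exists_subset_of_mem_open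
        (Set.mem_univ (⟨x, hx⟩ : (W : Scheme.{u}))) isOpen_univ
    have e : W.ι ''ᵁ (W : Scheme.{u}).basicOpen r = X.basicOpen (W.topIso.hom r) := by
      rw [← W.ι_image_basicOpen_topIso_inv (W.topIso.hom r)]
      congr 2
      exact (Iso.hom_inv_id_apply W.topIso r).symm
    exact ⟨W.topIso.hom r, e ▸ hr.image_of_isOpenImmersion W.ι, e ▸ ⟨⟨x, hx⟩, hxr, rfl⟩⟩
  · rintro ⟨hc, h⟩
    haveI : CompactSpace (W : Scheme.{u}) := isCompact_iff_compactSpace.mp hc
    refine Scheme.IsQuasiAffine.of_forall_exists_mem_basicOpen (W : Scheme.{u}) fun x => ?_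
    obtain ⟨r, hr, hxr⟩ := h x.1 x.2
    have e := W.ι_image_basicOpen_topIso_inv r
    refine ⟨W.topIso.inv r, (W.ι.isAffineOpen_iff_of_isOpenImmersion).1 (e ▸ hr), ?_⟩
    obtain ⟨y, hy, hyx⟩ : x.1 ∈ W.ι ''ᵁ (W : Scheme.{u}).basicOpen (W.topIso.inv r) := e ▸ hxr
    exact Subtype.ext hyx ▸ hy

theorem isQuasiAffine_iff_isRelAmple (f : X ⟶ Y) :
    Mor2.IsQuasiAffine f ↔ RelAmple.IsRelAmple f (Coh.structureModule X) := by
  refine and_congr_right fun _ => ⟨fun h V => ?_, fun h V hV => ?_⟩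
  · haveI := h V.1 V.2
    exact isAmple_of_isQuasiAffine (isInvertible_restrict _ InvX.isInvertible_structureModule)
  · exact isQuasiAffine_of_isAmple
      (isAmple_of_iso (Scheme.Modules.restrictUnitIso (f ⁻¹ᵁ V).ι) (h ⟨V, hV⟩))

theorem isQuasiAffine_of_comp (f : X ⟶ Y) (g : Y ⟶ Z) [QuasiSeparated g]
    (h : Mor2.IsQuasiAffine (f ≫ g)) : Mor2.IsQuasiAffine f := by
  haveI := h.1
  haveI : QuasiCompact f := QuasiCompact.of_comp f g
  exact (isQuasiAffine_iff_isRelAmple f).2 (isRelAmple_of_comp g ((isQuasiAffine_iff_isRelAmple _).1 h))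

theorem isQuasiAffine_of_isEmbedding (f : X ⟶ Y) [QuasiCompact f] (hf : Topology.IsEmbedding f.base) :
    Mor2.IsQuasiAffine f := by
  refine ⟨inferInstance, fun V hV => (qa_opens_iff _).2 ⟨f.isCompact_preimage hV.isCompact, fun x hx => ?_⟩⟩
  obtain ⟨_, ⟨A, hA, rfl⟩, hxA, hAV⟩ :=
    X.isBasis_affineOpens.exists_subset_of_mem_open (show x ∈ ((f ⁻¹ᵁ V : X.Opens) : Set X) from hx)
      (f ⁻¹ᵁ V).2
  obtain ⟨O, hO, hOA⟩ := hf.isInducing.isOpen_iff.1 A.2
  have hxO : f x ∈ O := by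
    have : x ∈ f.base ⁻¹' O := hOA.ge hxA
    exact this
  obtain ⟨r, hr, hxr⟩ := hV.exists_basicOpen_le (V := ⟨O, hO⟩) ⟨f x, hxO⟩ hx
  refine ⟨f.app V r, ?_, by rw [← Scheme.preimage_basicOpen]; exact hxr⟩
  have hle : f ⁻¹ᵁ Y.basicOpen r ≤ A := fun z hz => hOA.le (show f.base z ∈ O from hr hz)
  rw [← Scheme.preimage_basicOpen]
  have : f ⁻¹ᵁ Y.basicOpen r = X.basicOpen (X.presheaf.map (homOfLE (show A ≤ f ⁻¹ᵁ V from hAV)).op (f.app V r)) := by
    rw [Scheme.basicOpen_res, ← Scheme.preimage_basicOpen, inf_eq_right.2 hle]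
  rw [this]
  exact hA.basicOpen _

theorem isQuasiAffine_comp (f : X ⟶ Y) (g : Y ⟶ Z) (hf : Mor2.IsQuasiAffine f) (hg : Mor2.IsQuasiAffine g) :
    Mor2.IsQuasiAffine (f ≫ g) := by
  haveI := hf.1
  haveI := hg.1
  haveI : IsSeparated f := isSeparated_of_ampleOn fun x =>
    ampleOn_of_isRelAmple ((isQuasiAffine_iff_isRelAmple f).1 hf) (f x)
  refine ⟨inferInstance, fun V hV => (qa_opens_iff _).2 ⟨?_, fun x hx => ?_⟩⟩
  · exact (f ≫ g).isCompact_preimage hV.isCompact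
  obtain ⟨hWc, hW⟩ := (qa_opens_iff _).1 (hg.2 V hV)
  haveI := hg.2 V hV
  obtain ⟨s, hs, hxs⟩ := hW (f x) hx
  obtain ⟨-, hU⟩ := (qa_opens_iff _).1 (hf.2 _ hs)
  obtain ⟨t, ht, hxt⟩ := hU x hxs
  let W := f ⁻¹ᵁ (g ⁻¹ᵁ V)
  have hqs : IsQuasiSeparated (W : Set X) :=
    f.isQuasiSeparated_preimage
      (isQuasiSeparated_iff_quasiSeparatedSpace _ (g ⁻¹ᵁ V).2 |>.2
        (inferInstanceAs (QuasiSeparatedSpace ((g ⁻¹ᵁ V : Y.Opens) : Scheme.{u}))))
  let s' : Γ(X, W) := f.app _ s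
  have hD : X.basicOpen s' = f ⁻¹ᵁ Y.basicOpen s := (Scheme.preimage_basicOpen f s).symm
  obtain ⟨n, y, hy⟩ := exists_eq_pow_mul_of_isCompact_of_isQuasiSeparated X W
    (f.isCompact_preimage hWc) hqs s' (X.presheaf.map (homOfLE hD.le).op t)
  have key : X.basicOpen y ⊓ X.basicOpen s' = X.basicOpen t := by
    have h1 := congrArg X.basicOpen hy
    simp only [TopCat.Presheaf.restrictOpenCommRingCat_apply, Scheme.basicOpen_mul,
      Scheme.basicOpen_res] at h1
    have hu : X.basicOpen s' ⊓ X.basicOpen s' ≤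
        X.basicOpen ((X.presheaf.map (homOfLE (X.basicOpen_le s')).op s') ^ n) := by
      have hunit : IsUnit (X.presheaf.map (homOfLE (X.basicOpen_le s')).op s') :=
        RingedSpace.isUnit_res_basicOpen _ s'
      rw [inf_idem, X.basicOpen_of_isUnit (hunit.pow n)]
    rw [inf_comm, h1]
    refine le_antisymm (inf_le_right.trans inf_le_right) (le_inf ?_ (le_inf ?_ le_rfl))
    · exact le_trans (le_inf ((X.basicOpen_le t).trans hD.ge) ((X.basicOpen_le t).trans hD.ge)) hu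
    · exact (X.basicOpen_le t).trans hD.ge
  refine ⟨y * s', ?_, ?_⟩
  · show IsAffineOpen (X.basicOpen (y * s'))
    rw [Scheme.basicOpen_mul, key]; exact ht
  · show x ∈ X.basicOpen (y * s')
    rw [Scheme.basicOpen_mul, key]; exact hxt

theorem isRelAmple_id {L : Y.Modules} (hL : PicF.IsInvertible L) : RelAmple.IsRelAmple (𝟙 Y) L := by
  refine ⟨inferInstance, fun V => ?_⟩
  haveI : IsAffine ((𝟙 Y ⁻¹ᵁ V.1 : Y.Opens) : Scheme.{u}) := V.2
  exact isAmple_of_isQuasiAffine (isInvertible_restrict _ hL)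

end Groth.Agent.AmpleX
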