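import Groth.Agent.AmpleX.Sect
import Groth.Agent.AmpleX.Extend
import Groth.Agent.AmpleX.QAHom

/-!
# Composites of relatively ample modules
-/

universe u

open CategoryTheory AlgebraicGeometry TopologicalSpace
open Groth.Agent.H23.PicMul

set_option backward.isDefEq.respectTransparency false
set_option backward.isDefEq.respectTransparency.types false

namespace Groth.Agent.AmpleX

open Groth.Agent

variable {X Y Z : Scheme.{u}}

/-- Extension of a section from a locus, over an open subscheme. -/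
theorem exists_extend_open {M P : X.Modules} (hM : PicF.IsInvertible M) (hP : PicF.IsInvertible P)
    (W : X.Opens) [CompactSpace W.toScheme] [W.toScheme.IsSeparated] (a : Γ(P, W)) {A : X.Opens}
    (hA : locus a ≤ A) (hAW : locus a ≤ W) (t : Γ(M, A)) :
    ∃ n₀ : ℕ, ∀ n, n₀ ≤ n → ∃ T : Γ(CohB1.tensorMod M (CohB1.tensorPow P n), W),
      locus T ⊓ locus a = locus t ⊓ locus a := by
  let j := W.ι
  have hW : j ''ᵁ ⊤ = W := W.ι_image_top
  have hMj : PicF.IsInvertible (M.restrict j) := isInvertible_restrict j hM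
  have hPj : PicF.IsInvertible (P.restrict j) := isInvertible_restrict j hP
  let s : Coh.structureModule W.toScheme ⟶ P.restrict j :=
    InvX.ofSect (M := P.restrict j) (AModX.res P hW.le a)
  have hG : j ''ᵁ CohB1.genLocus _ s = locus a := by
    rw [genLocus_eq_locus, InvX.one_ofSect, image_locus, locus_res, hW, inf_eq_left.2 hAW]
  let t' : Γ(M.restrict j, CohB1.genLocus _ s) := AModX.res M (hG.le.trans hA) t
  obtain ⟨n₀, hn₀⟩ := exists_extend (X := W.toScheme) (ProjUPX.isQCoh_of_isInvertible hMj) hPj s t'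
  refine ⟨n₀, fun n hn => ?_⟩
  obtain ⟨T₀, hT₀⟩ := hn₀ n hn
  obtain ⟨e⟩ := cl_eq_iff.1 (show PicF.cl (CohB1.tensorMod (M.restrict j) (CohB1.tensorPow (P.restrict j) n)) =
      PicF.cl ((CohB1.tensorMod M (CohB1.tensorPow P n)).restrict j) by
    rw [cl_tensor, cl_tensorPow, cl_restrict, cl_restrict, cl_restrict, cl_tensor, cl_tensorPow, pullCl_mul,
      pullCl_pow])
  let T₁ : Γ(CohB1.tensorMod M (CohB1.tensorPow P n), j ''ᵁ ⊤) := e.hom.app ⊤ T₀
  refine ⟨AModX.res _ hW.ge T₁, ?_⟩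
  have h1 : locus T₀ ⊓ CohB1.genLocus _ s = locus t' := by
    have h2 := congrArg locus hT₀
    rw [locus_res, locus_tmul hMj (InvX.isInvertible_tensorPow hPj n)] at h2
    refine h2.trans (inf_eq_left.2 ((locus_le t').trans (le_locus _ le_rfl ?_)))
    rw [AModX.res_self]
    refine isFrame_powElt ?_ n
    have := isFrame_res_of_le (InvX.one s) (genLocus_eq_locus s).le
    exact this
  have h3 := congrArg (fun O => j ''ᵁ O) h1
  have himg : j ''ᵁ (locus T₀ ⊓ CohB1.genLocus _ s) = j ''ᵁ locus T₀ ⊓ j ''ᵁ CohB1.genLocus _ s :=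
    Opens.ext (Set.image_inter j.isOpenEmbedding.injective)
  simp only [himg, hG] at h3
  rw [← locus_iso e T₀, image_locus (M := CohB1.tensorMod M (CohB1.tensorPow P n)) j T₁] at h3
  rw [image_locus (M := M) j (AModX.res M (hG.le.trans hA) t), locus_res, hG] at h3
  rw [locus_res, inf_eq_left.2 ((locus_le T₁).trans hW.le)]
  exact h3

/-- Composites: for all large twists. -/
theorem eventually_sections_comp (f : X ⟶ Y) (g : Y ⟶ Z) {L : X.Modules} {K : Y.Modules}
    (hL : RelAmple.IsRelAmple f L) (hK : RelAmple.IsRelAmple g K) {V : Z.Opens} (hV : IsAffineOpen V) :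
    ∃ N₀ : ℕ, ∀ N, N₀ ≤ N → ∀ x : X, (f ≫ g) x ∈ V →
      ∃ (m : ℕ) (_ : 0 < m) (a : Γ(CohB1.tensorPow
          (CohB1.tensorMod L ((Scheme.Modules.pullback f).obj (CohB1.tensorPow K N))) m, (f ≫ g) ⁻¹ᵁ V)),
        x ∈ locus a ∧ IsAffineOpen (locus a) := by
  haveI := hL.1
  haveI := hK.1
  haveI : IsSeparated f := isSeparated_of_ampleOn fun x => ampleOn_of_isRelAmple hL (f x)
  haveI : IsSeparated g := isSeparated_of_ampleOn fun y => ampleOn_of_isRelAmple hK (g y)
  let W := (f ≫ g) ⁻¹ᵁ V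
  haveI : CompactSpace W.toScheme :=
    isCompact_iff_compactSpace.mp ((f ≫ g).isCompact_preimage hV.isCompact)
  haveI : W.toScheme.IsSeparated := by
    haveI : IsAffine V.toScheme := hV
    constructor
    rw [Limits.terminal.hom_ext (Limits.terminal.from W.toScheme) ((f ≫ g) ∣_ V ≫ Limits.terminal.from V.toScheme)]
    infer_instance
  have hiL := isInvertible_of_isRelAmple hL
  have hiK := isInvertible_of_isRelAmple hK
  let P := (Scheme.Modules.pullback f).obj K
  have hiP : PicF.IsInvertible P := PicClLib.isInvertible_pullback f hiK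
  have hpt : ∀ x : X, x ∈ W → ∃ (B : X.Opens) (n₀ : ℕ), x ∈ B ∧ ∀ N, n₀ ≤ N →
      ∃ (m : ℕ) (_ : 0 < m) (a : Γ(CohB1.tensorPow
          (CohB1.tensorMod L ((Scheme.Modules.pullback f).obj (CohB1.tensorPow K N))) m, W)),
        locus a = B ∧ IsAffineOpen B := by
    intro x hx
    obtain ⟨m, hm, a, hxa, -, ha⟩ := exists_sections_of_isRelAmple hK hV (x := f x) hx (U := ⊤) trivial
    obtain ⟨k, hk, b, hxb, -, hb⟩ := exists_sections_of_isRelAmple hL ha (x := x) hxa (U := ⊤) trivial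
    obtain ⟨b', hb'⟩ := exists_pow_section hiL b hm
    obtain ⟨a', ha'⟩ := exists_pull_section hiK f a
    have hsub : locus (M := CohB1.tensorPow P m) a' ≤ f ⁻¹ᵁ locus a := ha'.le
    obtain ⟨n₁, hn₁⟩ := exists_extend_open (InvX.isInvertible_tensorPow hiL (k * m))
      (InvX.isInvertible_tensorPow hiP m) W a' hsub (locus_le a') b'
    refine ⟨locus b, n₁ + 1, hxb, fun N hN => ?_⟩
    obtain ⟨n, hn, hn'⟩ : ∃ n, n₁ ≤ n ∧ n + 1 = k * N := by
      have : N ≤ k * N := Nat.le_mul_of_pos_left N hk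
      exact ⟨k * N - 1, by omega, by omega⟩
    obtain ⟨T, hT⟩ := hn₁ n hn
    obtain ⟨c, hc⟩ := exists_locus_cl
      (N := CohB1.tensorPow (CohB1.tensorMod L ((Scheme.Modules.pullback f).obj (CohB1.tensorPow K N))) (k * m))
      (show PicF.cl (CohB1.tensorMod (CohB1.tensorMod (CohB1.tensorPow L (k * m))
          (CohB1.tensorPow (CohB1.tensorPow P m) n)) (CohB1.tensorPow P m)) = _ by
        rw [cl_tensor, cl_tensor, cl_tensorPow, cl_tensorPow, cl_tensorPow, cl_tensorPow, cl_tensor,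
          show PicF.cl ((Scheme.Modules.pullback f).obj (CohB1.tensorPow K N)) =
            PicF.pullCl f (PicF.cl (CohB1.tensorPow K N)) from rfl, cl_tensorPow, pullCl_pow, mul_pow,
          show PicF.pullCl f (PicF.cl K) = PicF.cl P from rfl, mul_assoc, ← pow_succ, hn', ← pow_mul,
          ← pow_mul, mul_comm N (k * m), mul_left_comm m k, ← mul_assoc]) (InvX.tmul T a')
    refine ⟨k * m, Nat.mul_pos hk hm, c, ?_, hb⟩
    rw [hc, locus_tmul (InvX.isInvertible_tensorMod (InvX.isInvertible_tensorPow hiL _)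
      (InvX.isInvertible_tensorPow (InvX.isInvertible_tensorPow hiP _) _))
      (InvX.isInvertible_tensorPow hiP _), hT, hb', ha', inf_eq_left.2 (locus_le b)]
  choose B n₀ hxB hB using hpt
  obtain ⟨S, hS⟩ := ((f ≫ g).isCompact_preimage hV.isCompact).elim_finite_subcover
    (fun x : W => (B x.1 x.2 : Set X)) (fun x => (B x.1 x.2).2)
    (fun x hx => Set.mem_iUnion.2 ⟨⟨x, hx⟩, hxB x hx⟩)
  refine ⟨S.sup fun x : W => n₀ x.1 x.2, fun N hN x hx => ?_⟩
  obtain ⟨y, hy, hxy⟩ := Set.mem_iUnion₂.1 (hS hx)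
  obtain ⟨m, hm, a, ha, haff⟩ := hB y.1 y.2 N ((Finset.le_sup (f := fun x : W => n₀ x.1 x.2) hy).trans hN)
  exact ⟨m, hm, a, ha.symm ▸ hxy, ha.symm ▸ haff⟩

theorem eventually_isRelAmple_comp [CompactSpace Z] (f : X ⟶ Y) (g : Y ⟶ Z) {L : X.Modules} {K : Y.Modules}
    (hL : RelAmple.IsRelAmple f L) (hK : RelAmple.IsRelAmple g K) :
    ∃ n₀ : ℕ, 0 < n₀ ∧ ∀ n, n₀ ≤ n →
      RelAmple.IsRelAmple (f ≫ g) (CohB1.tensorMod L ((Scheme.Modules.pullback f).obj (CohB1.tensorPow K n))) := by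
  haveI := hL.1
  haveI := hK.1
  choose V hV hzV _ using fun z : Z => exists_isAffineOpen_mem_and_subset (x := z) (U := ⊤) trivial
  choose N₀ hN₀ using fun z : Z => eventually_sections_comp f g hL hK (hV z)
  obtain ⟨S, hS⟩ := isCompact_univ.elim_finite_subcover (fun z : Z => (V z : Set Z)) (fun z => (V z).2)
    (fun z _ => Set.mem_iUnion.2 ⟨z, hzV z⟩)
  refine ⟨S.sup N₀ + 1, Nat.succ_pos _, fun n hn => isRelAmple_of_sections (InvX.isInvertible_tensorMod
    (isInvertible_of_isRelAmple hL) (PicClLib.isInvertible_pullback _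
      (InvX.isInvertible_tensorPow (isInvertible_of_isRelAmple hK) n))) fun x => ?_⟩
  obtain ⟨z, hz, hxz⟩ := Set.mem_iUnion₂.1 (hS (Set.mem_univ ((f ≫ g) x)))
  exact ⟨V z, hxz, (f ≫ g).isCompact_preimage (hV z).isCompact,
    hN₀ z n ((Finset.le_sup hz).trans (by omega))⟩

/-- Pullback along a quasi-affine morphism. -/
theorem isRelAmple_pullback_quasiAffine (f : Y ⟶ Z) (g : X ⟶ Y) (hg : Mor2.IsQuasiAffine g) {L : Y.Modules}
    (hL : RelAmple.IsRelAmple f L) :
    RelAmple.IsRelAmple (g ≫ f) ((Scheme.Modules.pullback g).obj L) := by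
  haveI := hL.1
  haveI := hg.1
  have hO := (isQuasiAffine_iff_isRelAmple g).1 hg
  have hiL := isInvertible_of_isRelAmple hL
  have hi := PicClLib.isInvertible_pullback g hiL
  refine isRelAmple_of_sections hi fun x => ?_
  obtain ⟨V, hV, hxV, -⟩ := exists_isAffineOpen_mem_and_subset (x := (g ≫ f) x) (U := ⊤) trivial
  obtain ⟨N₀, hN₀⟩ := eventually_sections_comp g f hO hL hV
  refine ⟨V, hxV, (g ≫ f).isCompact_preimage hV.isCompact, fun x' hx' => ?_⟩
  obtain ⟨m, hm, a, hxa, ha⟩ := hN₀ (N₀ + 1) (Nat.le_succ _) x' hx'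
  obtain ⟨b, hb⟩ := exists_locus_cl
    (N := CohB1.tensorPow ((Scheme.Modules.pullback g).obj L) ((N₀ + 1) * m))
    (show PicF.cl (CohB1.tensorPow (CohB1.tensorMod (Coh.structureModule X)
        ((Scheme.Modules.pullback g).obj (CohB1.tensorPow L (N₀ + 1)))) m) = _ by
      rw [cl_tensorPow, cl_tensor, show PicF.cl (Coh.structureModule X) = 1 from rfl, one_mul,
        show PicF.cl ((Scheme.Modules.pullback g).obj (CohB1.tensorPow L (N₀ + 1))) =
            PicF.pullCl g (PicF.cl (CohB1.tensorPow L (N₀ + 1))) from rfl, cl_tensorPow, pullCl_pow,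
        cl_tensorPow, pow_mul]
      rfl) a
  exact ⟨(N₀ + 1) * m, Nat.mul_pos N₀.succ_pos hm, b, hb.symm ▸ hxa, hb.symm ▸ ha⟩

theorem isRelAmple_pullback_embedding (f : Y ⟶ Z) (j : X ⟶ Y) [QuasiCompact j]
    (hj : Topology.IsEmbedding j.base) {L : Y.Modules} (hL : RelAmple.IsRelAmple f L) :
    RelAmple.IsRelAmple (j ≫ f) ((Scheme.Modules.pullback j).obj L) :=
  isRelAmple_pullback_quasiAffine f j (isQuasiAffine_of_isEmbedding j hj) hL

end Groth.Agent.AmpleX
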