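import Groth.Agent.AmpleX.Pow
import Groth.Agent.InvX.GenLocusPull
import Groth.Prelude.Def_LCI2

/-!
# Relative ampleness over an affine base
-/

universe u

open CategoryTheory AlgebraicGeometry TopologicalSpace
open Groth.Agent.H23.PicMul

set_option backward.isDefEq.respectTransparency false
set_option backward.isDefEq.respectTransparency.types false

namespace Groth.Agent.AmpleX

open Groth.Agent

variable {X Z : Scheme.{u}} {L : X.Modules}

/-- Pullback of an ample module along an open immersion with enough small affine generating loci. -/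
theorem isAmple_pullback_of_isOpenImmersion (u : Z ⟶ X) [IsOpenImmersion u] [CompactSpace Z]
    (hL : PicF.IsInvertible L)
    (h : ∀ z : Z, ∃ (m : ℕ) (_ : 0 < m) (s : Coh.structureModule X ⟶ CohB1.tensorPow L m),
      u z ∈ CohB1.genLocus _ s ∧ CohB1.genLocus _ s ≤ u.opensRange ∧ IsAffineOpen (CohB1.genLocus _ s)) :
    CohB1.IsAmple ((Scheme.Modules.pullback u).obj L) := by
  refine isAmple_iff.2 ⟨PicClLib.isInvertible_pullback u hL, inferInstance, fun z => ?_⟩
  obtain ⟨m, hm, s, hz, hle, hs⟩ := h z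
  obtain ⟨e⟩ := PicClLib.nonempty_pullback_structureModule u
  have hg := InvX.genLocus_pullback u (InvX.isInvertible_tensorPow hL m) s e.symm
  obtain ⟨t, ht⟩ := exists_section_of_cl_eq
    (B := CohB1.tensorPow ((Scheme.Modules.pullback u).obj L) m)
    (by
      show PicF.pullCl u (PicF.cl (CohB1.tensorPow L m)) = _
      rw [cl_tensorPow, pullCl_pow, cl_tensorPow]
      rfl) (e.symm.hom ≫ (Scheme.Modules.pullback u).map s)
  rw [hg] at ht
  refine ⟨m, hm, t, ht.symm ▸ hz, ht.symm ▸ ?_⟩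
  rw [← u.isAffineOpen_iff_of_isOpenImmersion, Scheme.Hom.image_preimage_eq_opensRange_inf,
    inf_eq_right.2 hle]
  exact hs

theorem isAmple_of_iso {A B : X.Modules} (e : A ≅ B) (h : CohB1.IsAmple A) : CohB1.IsAmple B := by
  obtain ⟨hA, hc, hx⟩ := isAmple_iff.1 h
  refine isAmple_iff.2 ⟨isInvertible_of_iso e hA, hc, fun x => ?_⟩
  obtain ⟨m, hm, s, hxs, hs⟩ := hx x
  obtain ⟨t, ht⟩ := exists_section_of_cl_eq (B := CohB1.tensorPow B m)
    (by rw [cl_tensorPow, cl_tensorPow, cl_eq_iff.2 ⟨e⟩]) s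
  exact ⟨m, hm, t, ht ▸ hxs, ht ▸ hs⟩

/-- Multiplying a section by a function. -/
lemma genLocus_smul {M : X.Modules} (hM : PicF.IsInvertible M) (s : Coh.structureModule X ⟶ M) (g : Γ(X, ⊤)) :
    CohB1.genLocus M (InvX.ofSect (g • InvX.one s)) = CohB1.genLocus M s ⊓ X.basicOpen g := by
  refine Opens.ext (Set.ext fun x => ?_)
  obtain ⟨U, hxU, e, he⟩ := InvX.exists_frame hM x
  obtain ⟨c, hc⟩ := he.exists_coord le_rfl (AModX.res M (le_top : U ≤ ⊤) (InvX.one s))
  rw [AModX.res_self] at hc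
  have h1 : AModX.res M (le_top : U ≤ ⊤) (InvX.one (InvX.ofSect (g • InvX.one s))) =
      (AModX.resR (le_top : U ≤ ⊤) g * c) • e := by
    rw [InvX.one_ofSect, AModX.res_smul, hc, mul_smul]
  have h2 := congrArg (fun V : X.Opens => x ∈ V) (InvX.genLocus_inf _ he h1)
  have h3 := congrArg (fun V : X.Opens => x ∈ V) (InvX.genLocus_inf s he hc)
  rw [Scheme.basicOpen_mul, show AModX.resR (le_top : U ≤ ⊤) g = X.presheaf.map (homOfLE le_top).op g from rfl,
    Scheme.basicOpen_res] at h2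
  simp only [Opens.mem_inf, hxU, and_true, true_and, eq_iff_iff] at h2 h3
  show _ ↔ _
  exact h2.trans (and_comm.trans (and_congr_left fun _ => h3.symm))

theorem isRelAmple_iff_isAmple {Y : Scheme.{u}} [IsAffine Y] (f : X ⟶ Y) [QuasiCompact f] (L : X.Modules) :
    RelAmple.IsRelAmple f L ↔ CohB1.IsAmple L := by
  constructor
  · intro h
    let W : X.Opens := f ⁻¹ᵁ ⊤
    haveI : IsIso W.ι := inferInstanceAs (IsIso X.topIso.hom)
    obtain ⟨hLW, hc, hx⟩ := isAmple_iff.1 (h.2 ⟨⊤, isAffineOpen_top Y⟩)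
    haveI : CompactSpace X := QuasiCompact.compactSpace_of_compactSpace f
    have h1 := isAmple_pullback_of_isOpenImmersion (inv W.ι) hLW fun z => by
      obtain ⟨m, hm, s, hzs, hs⟩ := hx ((inv W.ι) z)
      exact ⟨m, hm, s, hzs, by rw [Scheme.Hom.opensRange_of_isIso]; exact le_top, hs⟩
    refine isAmple_of_iso (cl_eq_iff.1 ?_).some h1
    show PicF.pullCl (inv W.ι) (PicF.cl (L.restrict W.ι)) = PicF.cl L
    rw [cl_eq_iff.2 ⟨(Scheme.Modules.restrictFunctorIsoPullback W.ι).app L⟩]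
    show PicF.pullCl (inv W.ι) (PicF.pullCl W.ι (PicF.cl L)) = _
    rw [PicClLib.pullCl_comp, IsIso.inv_hom_id, PicClLib.pullCl_id]
  · intro h
    obtain ⟨hL, hc, hx⟩ := isAmple_iff.1 h
    refine ⟨inferInstance, fun V => ?_⟩
    haveI : CompactSpace (f ⁻¹ᵁ V.1).toScheme :=
      isCompact_iff_compactSpace.mp (f.isCompact_preimage V.2.isCompact)
    refine isAmple_of_iso ((Scheme.Modules.restrictFunctorIsoPullback (f ⁻¹ᵁ V.1).ι).app L).symm
      (isAmple_pullback_of_isOpenImmersion _ hL fun z => ?_)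
    obtain ⟨m, hm, s, hzs, hs⟩ := hx z.1
    obtain ⟨r, hr, hzr⟩ := (isAffineOpen_top Y).exists_basicOpen_le (V := V.1) ⟨f z.1, z.2⟩ trivial
    refine ⟨m, hm, InvX.ofSect (f.appTop r • InvX.one s), ?_⟩
    rw [genLocus_smul (InvX.isInvertible_tensorPow hL m), Scheme.Opens.opensRange_ι,
      ← Scheme.preimage_basicOpen_top]
    refine ⟨⟨hzs, hzr⟩, inf_le_right.trans (f.preimage_mono hr), ?_⟩
    have := hs.basicOpen (AModX.resR (le_top : CohB1.genLocus _ s ≤ ⊤) (f.appTop r))
    rwa [show AModX.resR (le_top : CohB1.genLocus _ s ≤ ⊤) (f.appTop r) =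
        X.presheaf.map (homOfLE le_top).op (f.appTop r) from rfl,
      Scheme.basicOpen_res, ← Scheme.preimage_basicOpen_top] at this

end Groth.Agent.AmpleX
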