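import Groth.Agent.AmpleX.Pow
import Groth.Agent.ProjUPX.Unique
import Groth.Agent.PnCoh.Finite.TwistInv

/-!
# `O(1)` on `Proj` of an algebra generated in degree one is ample
-/

universe u

open CategoryTheory AlgebraicGeometry TopologicalSpace HomogeneousLocalization

set_option backward.isDefEq.respectTransparency false
set_option backward.isDefEq.respectTransparency.types false

namespace Groth.Agent.AmpleX

open Groth.Agent

variable {R A : Type u} [CommRing R] [CommRing A] [Algebra R A] (𝒜 : ℕ → Submodule R A) [GradedAlgebra 𝒜]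

theorem genLocus_sec {κ : Type*} (g : κ → A) (hg : ∀ j, g j ∈ 𝒜 1)
    (hcov : ⨆ j, Proj.basicOpen 𝒜 (g j) = ⊤) {a : A} (ha : a ∈ 𝒜 1) :
    CohB1.genLocus (Twist.twist 𝒜 1) (InvX.ofSect (ProjUPX.sec 𝒜 ha)) = Proj.basicOpen 𝒜 a := by
  refine le_antisymm (fun x hx => ?_) (InvX.le_genLocus _ ?_)
  · obtain ⟨j, hj⟩ := Opens.mem_iSup.1 (hcov.ge (trivial : x ∈ (⊤ : (Proj 𝒜).Opens)))
    let D := Proj.basicOpen 𝒜 (g j)
    let c : Γ(Proj 𝒜, D) := (Proj.awayToSection 𝒜 (g j)).hom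
      (Away.mk 𝒜 (hg j) 1 a (by rwa [one_smul]))
    have h1 : AModX.res (Twist.twist 𝒜 1) (le_top : D ≤ ⊤) (InvX.one (InvX.ofSect (ProjUPX.sec 𝒜 ha))) =
        c • AModX.res (Twist.twist 𝒜 1) (le_top : D ≤ ⊤) (ProjUPX.sec 𝒜 (hg j)) := by
      rw [InvX.one_ofSect]
      exact ProjUPX.sec_eq_smul 𝒜 ha (hg j)
    have h2 := InvX.genLocus_inf (InvX.ofSect (ProjUPX.sec 𝒜 ha)) (ProjUPX.isFrame_sec 𝒜 (hg j)) h1
    have hxc : x ∈ (Proj 𝒜).basicOpen c := h2 ▸ ⟨hx, hj⟩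
    have hle : (Proj 𝒜).basicOpen c ≤ (𝟙 (Proj 𝒜)) ⁻¹ᵁ D := (Proj 𝒜).basicOpen_le c
    exact ProjUPX.le_preimage_of_isUnit (𝟙 (Proj 𝒜)) ha (hg j) hle
      (by
        have hu : IsUnit (AModX.resR ((Proj 𝒜).basicOpen_le c) c) := AModX.isUnit_resR _ _ le_rfl
        convert hu using 1
        unfold ProjUPX.ratioOf
        rw [Scheme.Hom.appLE, Scheme.Hom.id_app, Category.id_comp]
        rfl) hxc
  · rw [InvX.one_ofSect]
    exact ProjUPX.isFrame_sec 𝒜 ha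

theorem isAmple_twist_one (s : Finset A) (hs1 : ∀ f ∈ s, f ∈ 𝒜 1)
    (hcov : ⨆ f : s, Proj.basicOpen 𝒜 (f : A) = ⊤) : CohB1.IsAmple (Twist.twist 𝒜 1) := by
  have hL : PicF.IsInvertible (Twist.twist 𝒜 1) :=
    PnCoh.Finite.isInvertible_twist (fun f : s => (f : A)) (fun f => hs1 f f.2) hcov 1
  have haff : ∀ f : s, IsAffineOpen (Proj.basicOpen 𝒜 (f : A)) := fun f =>
    Proj.isAffineOpen_basicOpen 𝒜 _ (hs1 f f.2) one_pos
  refine isAmple_iff.2 ⟨hL, ⟨?_⟩, fun x => ?_⟩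
  · have : (Set.univ : Set (Proj 𝒜)) = ⋃ f : s, (Proj.basicOpen 𝒜 (f : A) : Set (Proj 𝒜)) := by
      rw [← Opens.coe_iSup, hcov]
      rfl
    rw [this]
    exact isCompact_iUnion fun f => (haff f).isCompact
  · obtain ⟨f, hf⟩ := Opens.mem_iSup.1 (hcov.ge (trivial : x ∈ (⊤ : (Proj 𝒜).Opens)))
    refine ⟨1, one_pos, InvX.powHom (InvX.ofSect (ProjUPX.sec 𝒜 (hs1 f f.2))) 1, ?_⟩
    rw [InvX.genLocus_powHom hL _ 0,
      genLocus_sec 𝒜 (fun f : s => (f : A)) (fun f => hs1 f f.2) hcov (hs1 f f.2)]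
    exact ⟨hf, haff f⟩

end Groth.Agent.AmpleX
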