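import Groth.Agent.AmpleX.Basis

/-!
# An affine generating locus around a finite set
-/

universe u

open CategoryTheory AlgebraicGeometry TopologicalSpace
open Groth.Agent.H23.PicMul

set_option backward.isDefEq.respectTransparency false
set_option backward.isDefEq.respectTransparency.types false

namespace Groth.Agent.AmpleX

open Groth.Agent

variable {X : Scheme.{u}} {L : X.Modules}

lemma one_add (s t : Coh.structureModule X ⟶ L) : InvX.one (s + t) = InvX.one s + InvX.one t := rfl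

lemma one_zero : InvX.one (0 : Coh.structureModule X ⟶ L) = 0 := rfl

lemma one_sum {ι : Type*} (S : Finset ι) (s : ι → (Coh.structureModule X ⟶ L)) :
    InvX.one (∑ i ∈ S, s i) = ∑ i ∈ S, InvX.one (s i) := by
  classical
  induction S using Finset.induction with
  | empty => rw [Finset.sum_empty, Finset.sum_empty, one_zero]
  | insert i S hi ih => rw [Finset.sum_insert hi, Finset.sum_insert hi, one_add, ih]

/-- Membership in the generating locus via the coordinate in a frame. -/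
lemma mem_genLocus_iff (s : Coh.structureModule X ⟶ L) {U : X.Opens} {e : Γ(L, U)} (he : InvX.IsFrame e)
    {g : Γ(X, U)} (hg : AModX.res L (le_top : U ≤ ⊤) (InvX.one s) = g • e) {x : X} (hx : x ∈ U) :
    x ∈ CohB1.genLocus L s ↔ IsUnit (X.presheaf.germ U x hx g) := by
  rw [← X.mem_basicOpen g x hx, ← InvX.genLocus_inf s he hg]
  exact ⟨fun h => ⟨h, hx⟩, fun h => h.1⟩

lemma res_genLocus_frame (s : Coh.structureModule X ⟶ L) :
    InvX.IsFrame (AModX.res L (le_top : CohB1.genLocus L s ≤ ⊤) (InvX.one s)) := by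
  refine InvX.isFrame_of_germ fun y hy => ?_
  obtain ⟨W, hyW, hW⟩ := InvX.mem_genLocus hy
  have := hW.germ_bijective hyW
  rw [InvX.germ_res'] at this ⊢
  exact this

theorem exists_finite_nhd [X.IsSeparated] (h : CohB1.IsAmple L) {Z : Set X} (hZ : Z.Finite) {U : X.Opens}
    (hZU : Z ⊆ U) : ∃ (n : ℕ) (s : Coh.structureModule X ⟶ CohB1.tensorPow L (n + 1)),
      Z ⊆ CohB1.genLocus _ s ∧ (CohB1.genLocus _ s : Set X) ⊆ U ∧ IsAffineOpen (CohB1.genLocus _ s) := by
  classical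
  obtain ⟨hL, -, -⟩ := isAmple_iff.1 h
  let Z₀ : Set X := {z ∈ Z | ∀ w ∈ Z, z ⤳ w → w = z}
  have hZ₀ : Z₀.Finite := hZ.subset fun z hz => hz.1
  have hmax : ∀ z ∈ Z, ∃ z₀ ∈ Z₀, z ⤳ z₀ := fun z hz => by
    obtain ⟨z₀, hle, hmin⟩ := (hZ.subset (fun w (hw : w ∈ {w ∈ Z | z ⤳ w}) => hw.1)).exists_le_minimal
      (show z ∈ {w ∈ Z | z ⤳ w} from ⟨hz, specializes_rfl⟩)
    refine ⟨z₀, ⟨hmin.1.1, fun w hw hzw => ?_⟩, hmin.1.2⟩
    have hle' : z₀ ≤ w := hmin.2 ⟨hw, hmin.1.2.trans hzw⟩ hzw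
    exact (hzw.antisymm (y := w) hle').eq.symm
  let W : X → X.Opens := fun z => U ⊓ ⟨(⋃ w ∈ Z₀ \ {z}, closure {w})ᶜ,
    ((hZ₀.diff).isClosed_biUnion fun w _ => isClosed_closure).isOpen_compl⟩
  have hW : ∀ z : Z₀, (z : X) ∈ W z := fun z => ⟨hZU z.2.1, fun hmem => by
    obtain ⟨w, hw, hzw⟩ := Set.mem_iUnion₂.1 hmem
    exact hw.2 ((hw.1.2 z z.2.1 (specializes_iff_mem_closure.2 hzw)).symm)⟩
  choose m hm s hs hsW hsa using fun z : Z₀ => exists_genLocus_le h (hW z)
  haveI := hZ₀.fintype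
  let D := ∏ z, m z
  have hD : 0 < D := Finset.prod_pos fun z _ => hm z
  have hpow : ∀ z, ∃ t : Coh.structureModule X ⟶ CohB1.tensorPow L D,
      CohB1.genLocus _ t = CohB1.genLocus _ (s z) := fun z => by
    obtain ⟨c, hc⟩ : m z ∣ D := Finset.dvd_prod_of_mem _ (Finset.mem_univ z)
    obtain ⟨k, rfl⟩ : ∃ k, c = k + 1 := Nat.exists_eq_add_of_le'
      (Nat.pos_of_ne_zero fun h0 => by rw [h0, mul_zero] at hc; exact hD.ne' hc)
    obtain ⟨t, ht⟩ := exists_section_of_cl_eq (B := CohB1.tensorPow L D)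
      (by rw [cl_tensorPow, cl_tensorPow, cl_tensorPow, ← pow_mul, hc]) (InvX.powHom (s z) (k + 1))
    exact ⟨t, ht.trans (InvX.genLocus_powHom (InvX.isInvertible_tensorPow hL _) _ k)⟩
  choose t ht using hpow
  let σ := ∑ z, t z
  have hLD := InvX.isInvertible_tensorPow hL D
  -- membership
  have hmem : ∀ z : Z₀, (z : X) ∈ CohB1.genLocus _ σ := fun z => by
    obtain ⟨V, hzV, e, he⟩ := InvX.exists_frame hLD z
    choose g hg using fun w => he.exists_coord le_rfl
      (AModX.res _ (le_top : V ≤ ⊤) (InvX.one (t w)))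
    simp only [AModX.res_self] at hg
    have hsum : AModX.res _ (le_top : V ≤ ⊤) (InvX.one σ) = (∑ w, g w) • e := by
      rw [one_sum, map_sum, Finset.sum_smul]
      exact Finset.sum_congr rfl fun w _ => hg w
    rw [mem_genLocus_iff σ he hsum hzV, map_sum, ← Finset.add_sum_erase _ _ (Finset.mem_univ z)]
    have hu : IsUnit (X.presheaf.germ V z hzV (g z)) :=
      (mem_genLocus_iff (t z) he (hg z) hzV).1 (by rw [ht]; exact hs z)
    have hnu : (∑ w ∈ Finset.univ.erase z, X.presheaf.germ V z hzV (g w)) ∈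
        IsLocalRing.maximalIdeal (X.presheaf.stalk z) := Ideal.sum_mem _ fun w hw => by
      refine fun hu' => ?_
      have h1 := (mem_genLocus_iff (t w) he (hg w) hzV).2 hu'
      rw [ht] at h1
      refine ((hsW w h1).2) (Set.mem_iUnion₂.2 ⟨z, ⟨z.2, fun he' => ?_⟩, subset_closure rfl⟩)
      exact (Finset.ne_of_mem_erase hw) (Subtype.ext he').symm
    by_contra hc
    exact hu.elim fun v hv => (IsLocalRing.maximalIdeal.isMaximal _).ne_top ((Ideal.eq_top_iff_one _).2 (by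
      have h2 := Ideal.sub_mem _ (show _ ∈ IsLocalRing.maximalIdeal (X.presheaf.stalk z) from hc) hnu
      rw [add_sub_cancel_right] at h2
      have h3 := Ideal.mul_mem_left _ (↑v⁻¹ : X.presheaf.stalk z) h2
      rwa [← hv, Units.inv_mul] at h3))
  let G := CohB1.genLocus _ σ
  have hτ := res_genLocus_frame σ
  choose c hc using fun w => hτ.exists_coord le_rfl
    (AModX.res _ (le_top : G ≤ ⊤) (InvX.one (t w)))
  simp only [AModX.res_self] at hc
  have hbo : ∀ w, X.basicOpen (c w) = CohB1.genLocus _ (s w) ⊓ G := fun w => by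
    rw [← InvX.genLocus_inf (t w) hτ (hc w), ht]
  have h1 : ∑ w, c w = 1 := hτ.coord_unique le_rfl (by
    rw [Finset.sum_smul, one_smul]
    simp only [AModX.res_self]
    refine (Finset.sum_congr rfl fun w _ => (hc w).symm).trans ?_
    rw [one_sum, map_sum])
  have hGU : G ≤ U := fun p hp => by
    have hp1 : IsUnit (X.presheaf.germ G p hp (∑ w, c w)) := by rw [h1, map_one]; exact isUnit_one
    rw [map_sum] at hp1
    obtain ⟨w, -, hw⟩ : ∃ w ∈ Finset.univ, IsUnit (X.presheaf.germ G p hp (c w)) := by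
      by_contra! hno
      exact (show _ ∈ IsLocalRing.maximalIdeal (X.presheaf.stalk p) from
        Ideal.sum_mem _ fun w hw => hno w hw) hp1
    have hpw : p ∈ X.basicOpen (c w) := (X.mem_basicOpen _ p hp).2 hw
    rw [hbo] at hpw
    exact (hsW w hpw.1).1
  have hGa : IsAffineOpen G := isAffineOpen_of_isAffineOpen_basicOpen G (Set.range c)
    ((Ideal.eq_top_iff_one _).2 (h1 ▸ Ideal.sum_mem _ fun w _ => Ideal.subset_span ⟨w, rfl⟩))
    (by
      rintro _ ⟨w, rfl⟩
      rw [hbo]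
      exact isAffineOpen_inf_genLocus hLD (hsa w) σ)
  obtain ⟨k, hk⟩ := Nat.exists_eq_add_of_le' hD
  obtain ⟨r, hr⟩ := exists_section_of_cl_eq (B := CohB1.tensorPow L (k + 1))
    (by rw [cl_tensorPow, cl_tensorPow, hk]) σ
  refine ⟨k, r, hr ▸ fun z hz => ?_, hr ▸ hGU, hr ▸ hGa⟩
  obtain ⟨z₀, hz₀, hzz⟩ := hmax z hz
  exact hzz.mem_open G.2 (hmem ⟨z₀, hz₀⟩)

end Groth.Agent.AmpleX
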