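import Groth.Agent.AmpleX.Comp
import Mathlib.AlgebraicGeometry.Limits

/-!
# Relative ampleness on disjoint unions
-/

universe u

open CategoryTheory CategoryTheory.Limits AlgebraicGeometry TopologicalSpace
open Groth.Agent.H23.PicMul

set_option backward.isDefEq.respectTransparency false
set_option backward.isDefEq.respectTransparency.types false

namespace Groth.Agent.AmpleX

open Groth.Agent

variable {A P Y : Scheme.{u}} {L : P.Modules}

/-- Sections over an open subscheme as sections over the image. -/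
theorem exists_push_section (i : A ⟶ P) [IsOpenImmersion i] {U : A.Opens} {m : ℕ}
    (a : Γ(CohB1.tensorPow ((Scheme.Modules.pullback i).obj L) m, U)) :
    ∃ b : Γ(CohB1.tensorPow L m, i ''ᵁ U), locus b = i ''ᵁ locus a := by
  obtain ⟨e⟩ := cl_eq_iff.1 (show PicF.cl (CohB1.tensorPow ((Scheme.Modules.pullback i).obj L) m) =
      PicF.cl ((CohB1.tensorPow L m).restrict i) by
    rw [cl_tensorPow, cl_restrict, cl_tensorPow, pullCl_pow]; rfl)
  refine ⟨e.hom.app U a, ?_⟩
  rw [← image_locus (M := CohB1.tensorPow L m) i (V := U) (e.hom.app U a), locus_iso]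

theorem isRelAmple_of_disjoint {B : Scheme.{u}} (i : A ⟶ P) (i' : B ⟶ P) [IsOpenImmersion i] [IsOpenImmersion i']
    (hdisj : i.opensRange ⊓ i'.opensRange = ⊥) (hcov : i.opensRange ⊔ i'.opensRange = ⊤) (h : P ⟶ Y)
    (hL : RelAmple.IsRelAmple (i ≫ h) ((Scheme.Modules.pullback i).obj L))
    (hL' : RelAmple.IsRelAmple (i' ≫ h) ((Scheme.Modules.pullback i').obj L)) :
    RelAmple.IsRelAmple h L := by
  haveI := hL.1
  haveI := hL'.1
  have hmem : ∀ p : P, (∃ a, i a = p) ∨ ∃ b, i' b = p := fun p =>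
    (hcov.ge (show p ∈ (⊤ : P.Opens) from trivial)).imp id id
  haveI : QuasiCompact h := by
    refine (quasiCompact_iff h).2 fun U hU hc => ?_
    have e : h ⁻¹' U = i '' ((i ≫ h) ⁻¹' U) ∪ i' '' ((i' ≫ h) ⁻¹' U) := by
      ext p
      refine ⟨fun hp => ?_, ?_⟩
      · rcases hmem p with ⟨a, rfl⟩ | ⟨b, rfl⟩
        · exact Or.inl ⟨a, by simpa using hp, rfl⟩
        · exact Or.inr ⟨b, by simpa using hp, rfl⟩
      · rintro (⟨a, ha, rfl⟩ | ⟨b, hb, rfl⟩)
        · simpa using ha
        · simpa using hb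
    rw [e]
    exact ((((quasiCompact_iff (i ≫ h)).1 hL.1) U hU hc).image i.continuous).union
      ((((quasiCompact_iff (i' ≫ h)).1 hL'.1) U hU hc).image i'.continuous)
  have hinv : PicF.IsInvertible L := isInvertible_of_restrict_cover fun p => by
    rcases hmem p with ⟨a, rfl⟩ | ⟨b, rfl⟩
    · exact ⟨A, i, inferInstance, ⟨a, rfl⟩, isInvertible_of_iso
        ((Scheme.Modules.restrictFunctorIsoPullback i).app L).symm (isInvertible_of_isRelAmple hL)⟩
    · exact ⟨B, i', inferInstance, ⟨b, rfl⟩, isInvertible_of_iso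
        ((Scheme.Modules.restrictFunctorIsoPullback i').app L).symm (isInvertible_of_isRelAmple hL')⟩
  refine isRelAmple_of_sections hinv fun p => ?_
  obtain ⟨V, hV, hpV, -⟩ := exists_isAffineOpen_mem_and_subset (x := h p) (U := ⊤) trivial
  refine ⟨V, hpV, h.isCompact_preimage hV.isCompact, fun q hq => ?_⟩
  have step : ∀ {C D : Scheme.{u}} (k : C ⟶ P) (k' : D ⟶ P) [IsOpenImmersion k] [IsOpenImmersion k'],
      k.opensRange ⊓ k'.opensRange = ⊥ → k.opensRange ⊔ k'.opensRange = ⊤ →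
      RelAmple.IsRelAmple (k ≫ h) ((Scheme.Modules.pullback k).obj L) → ∀ c : C, h (k c) ∈ V →
      ∃ (m : ℕ) (_ : 0 < m) (a : Γ(CohB1.tensorPow L m, h ⁻¹ᵁ V)), k c ∈ locus a ∧ IsAffineOpen (locus a) := by
    intro C D k k' _ _ hd hc hk c hcV
    obtain ⟨m, hm, a, hca, -, ha⟩ := exists_sections_of_isRelAmple hk hV (x := c) hcV (U := ⊤) trivial
    obtain ⟨b, hb⟩ := exists_push_section k a
    have himg : k ''ᵁ ((k ≫ h) ⁻¹ᵁ V) = k.opensRange ⊓ h ⁻¹ᵁ V := by
      rw [Scheme.Hom.comp_preimage, Scheme.Hom.image_preimage_eq_opensRange_inf]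
    obtain ⟨b', hb'⟩ := exists_section_extend_zero (InvX.isInvertible_tensorPow hinv m)
      (U := k ''ᵁ ((k ≫ h) ⁻¹ᵁ V)) (U' := k'.opensRange ⊓ h ⁻¹ᵁ V) (W' := h ⁻¹ᵁ V)
      (himg.le.trans inf_le_right) inf_le_right
      (by rw [himg, ← inf_sup_right, hc, top_inf_eq])
      (by rw [himg, inf_inf_inf_comm, hd, bot_inf_eq]) b
    refine ⟨m, hm, b', ?_⟩
    rw [hb', hb]
    exact ⟨⟨c, hca, rfl⟩, ha.image_of_isOpenImmersion k⟩
  rcases hmem q with ⟨a, rfl⟩ | ⟨b, rfl⟩
  · exact step i i' hdisj hcov hL a hq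
  · exact step i' i (inf_comm i.opensRange _ ▸ hdisj) (sup_comm i.opensRange _ ▸ hcov) hL' b hq

theorem isRelAmple_coprod_iff {X X' : Scheme.{u}} (f : X ⟶ Y) (f' : X' ⟶ Y) [QuasiCompact f] [QuasiCompact f']
    (L : (X ⨿ X').Modules) :
    RelAmple.IsRelAmple (coprod.desc f f') L ↔
      RelAmple.IsRelAmple f ((Scheme.Modules.pullback (coprod.inl : X ⟶ X ⨿ X')).obj L) ∧
        RelAmple.IsRelAmple f' ((Scheme.Modules.pullback (coprod.inr : X' ⟶ X ⨿ X')).obj L) := by
  have hc := isCompl_range_inl_inr X X'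
  constructor
  · intro h
    haveI : QuasiCompact (coprod.inl : X ⟶ X ⨿ X') := by
      have : IsClosed (Set.range (coprod.inl : X ⟶ X ⨿ X')) := by
        rw [← isOpen_compl_iff, hc.compl_eq]; exact (coprod.inr : X' ⟶ X ⨿ X').isOpenEmbedding.isOpen_range
      have : IsClosedImmersion (coprod.inl : X ⟶ X ⨿ X') :=
        IsClosedImmersion.of_isPreimmersion _ this
      infer_instance
    haveI : QuasiCompact (coprod.inr : X' ⟶ X ⨿ X') := by
      have : IsClosed (Set.range (coprod.inr : X' ⟶ X ⨿ X')) := by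
        rw [← isOpen_compl_iff, hc.symm.compl_eq]; exact (coprod.inl : X ⟶ X ⨿ X').isOpenEmbedding.isOpen_range
      have : IsClosedImmersion (coprod.inr : X' ⟶ X ⨿ X') :=
        IsClosedImmersion.of_isPreimmersion _ this
      infer_instance
    have h1 := isRelAmple_pullback_embedding (coprod.desc f f') coprod.inl
      (coprod.inl : X ⟶ X ⨿ X').isOpenEmbedding.isEmbedding h
    have h2 := isRelAmple_pullback_embedding (coprod.desc f f') coprod.inr
      (coprod.inr : X' ⟶ X ⨿ X').isOpenEmbedding.isEmbedding h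
    rw [coprod.inl_desc] at h1
    rw [coprod.inr_desc] at h2
    exact ⟨h1, h2⟩
  · rintro ⟨h1, h2⟩
    refine isRelAmple_of_disjoint coprod.inl coprod.inr ?_ ?_ _
      (by rw [coprod.inl_desc]; exact h1) (by rw [coprod.inr_desc]; exact h2)
    · exact Opens.ext hc.disjoint.inter_eq
    · exact Opens.ext hc.codisjoint.eq_top

end Groth.Agent.AmpleX
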