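import Groth.Agent.AmpleX.Rel
import Groth.Agent.InvX.GenLocusPull

/-!
# Sections over opens: pullback, tensor products, and criteria for relative ampleness
-/

universe u

open CategoryTheory AlgebraicGeometry TopologicalSpace
open Groth.Agent.H23.PicMul

set_option backward.isDefEq.respectTransparency false
set_option backward.isDefEq.respectTransparency.types false

namespace Groth.Agent.AmpleX

open Groth.Agent

variable {X Y W : Scheme.{u}} {M N L L' : X.Modules}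

/-- Isomorphisms preserve loci. -/
theorem locus_iso (e : M ≅ N) {U : X.Opens} (a : Γ(M, U)) : locus (e.hom.app U a) = locus a := by
  refine le_antisymm (sSup_le fun V ⟨h, hV⟩ => le_locus a h ?_) (sSup_le fun V ⟨h, hV⟩ => le_locus _ h ?_)
  · rw [← AModX.app_res] at hV
    have h2 := InvX.IsFrame.map_iso e.symm hV
    have h3 : e.inv.app V (e.hom.app V (AModX.res M h a)) = AModX.res M h a := by
      change (e.hom ≫ e.inv).app V (AModX.res M h a) = _
      rw [e.hom_inv_id]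
      rfl
    rwa [show e.symm.hom = e.inv from rfl, h3] at h2
  · rw [← AModX.app_res]
    exact hV.map_iso e

theorem exists_locus_cl (h : PicF.cl M = PicF.cl N) {U : X.Opens} (a : Γ(M, U)) :
    ∃ b : Γ(N, U), locus b = locus a :=
  let ⟨e⟩ := cl_eq_iff.1 h
  ⟨e.hom.app U a, locus_iso e a⟩

/-- The locus of a pulled back section. -/
theorem locus_pullElt (hM : PicF.IsInvertible M) (u : W ⟶ X) {U : X.Opens} (a : Γ(M, U)) :
    locus (InvX.pullElt u a) = u ⁻¹ᵁ locus a := by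
  refine Opens.ext (Set.ext fun z => ?_)
  show z ∈ locus (InvX.pullElt u a) ↔ u z ∈ locus a
  by_cases hzU : u z ∈ U
  swap
  · exact ⟨fun h => absurd (locus_le _ h) hzU, fun h => absurd (locus_le a h) hzU⟩
  obtain ⟨V₀, hzV₀, e₀, he₀⟩ := InvX.exists_frame hM (u z)
  let V := V₀ ⊓ U
  have he := he₀.res (inf_le_left : V ≤ V₀)
  obtain ⟨c, hc⟩ := he.exists_coord le_rfl (AModX.res M (inf_le_right : V ≤ U) a)
  rw [AModX.res_self] at hc
  have h1 : AModX.res _ (u.preimage_mono (inf_le_right : V ≤ U)) (InvX.pullElt u a) =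
      u.app V c • InvX.pullElt u (AModX.res M (inf_le_left : V ≤ V₀) e₀) := by
    rw [InvX.res_pullElt u (inf_le_right : V ≤ U), hc, InvX.pullElt_smul]
  have h2 := congrArg (fun O : W.Opens => z ∈ O) (locus_inf _ _ (InvX.isFrame_pullElt u he) h1)
  have h3 := congrArg (fun O : X.Opens => u z ∈ O) (locus_inf _ _ he hc)
  rw [← Scheme.preimage_basicOpen] at h2
  have hzV : u z ∈ V := ⟨hzV₀, hzU⟩
  simp only [Opens.mem_inf, eq_iff_iff] at h2 h3
  exact ⟨fun h => (h3.2 (h2.1 ⟨h, hzV⟩)).1, fun h => (h2.2 (h3.1 ⟨h, hzV⟩)).1⟩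

theorem exists_pull_section (hL : PicF.IsInvertible L) (u : W ⟶ X) {U : X.Opens} {m : ℕ}
    (a : Γ(CohB1.tensorPow L m, U)) :
    ∃ b : Γ(CohB1.tensorPow ((Scheme.Modules.pullback u).obj L) m, u ⁻¹ᵁ U),
      locus b = u ⁻¹ᵁ locus a := by
  obtain ⟨b, hb⟩ := exists_locus_cl
    (N := CohB1.tensorPow ((Scheme.Modules.pullback u).obj L) m)
    (show PicF.pullCl u (PicF.cl (CohB1.tensorPow L m)) = _ by
      rw [cl_tensorPow, pullCl_pow, cl_tensorPow]; rfl) (InvX.pullElt u a)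
  exact ⟨b, hb.trans (locus_pullElt (InvX.isInvertible_tensorPow hL m) u a)⟩

theorem locus_tmul (hM : PicF.IsInvertible M) (hN : PicF.IsInvertible N) {U : X.Opens}
    (a : Γ(M, U)) (b : Γ(N, U)) : locus (InvX.tmul a b) = locus a ⊓ locus b := by
  refine Opens.ext (Set.ext fun x => ?_)
  show x ∈ locus (InvX.tmul a b) ↔ x ∈ locus a ⊓ locus b
  by_cases hxU : x ∈ U
  swap
  · exact ⟨fun h => absurd (locus_le _ h) hxU, fun h => absurd (locus_le a h.1) hxU⟩
  obtain ⟨V₀, hxV₀, e₀, f₀, he₀, hf₀⟩ := InvX.exists_frame₂ hM hN x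
  let V := V₀ ⊓ U
  have he := he₀.res (inf_le_left : V ≤ V₀)
  have hf := hf₀.res (inf_le_left : V ≤ V₀)
  obtain ⟨c, hc⟩ := he.exists_coord le_rfl (AModX.res M (inf_le_right : V ≤ U) a)
  obtain ⟨d, hd⟩ := hf.exists_coord le_rfl (AModX.res N (inf_le_right : V ≤ U) b)
  rw [AModX.res_self] at hc hd
  have h1 : AModX.res _ (inf_le_right : V ≤ U) (InvX.tmul a b) =
      (c * d) • InvX.tmul (AModX.res M (inf_le_left : V ≤ V₀) e₀) (AModX.res N (inf_le_left : V ≤ V₀) f₀) := by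
    rw [InvX.res_tmul, hc, hd, InvX.tmul_smul_left, InvX.tmul_smul_right, mul_smul]
  have h2 := congrArg (fun O : X.Opens => x ∈ O) (locus_inf _ _ (InvX.isFrame_tmul he hf) h1)
  have h3 := congrArg (fun O : X.Opens => x ∈ O) (locus_inf _ _ he hc)
  have h4 := congrArg (fun O : X.Opens => x ∈ O) (locus_inf _ _ hf hd)
  rw [Scheme.basicOpen_mul] at h2
  have hxV : x ∈ V := ⟨hxV₀, hxU⟩
  simp only [Opens.mem_inf, eq_iff_iff] at h2 h3 h4
  rw [Opens.mem_inf]
  exact ⟨fun h => ⟨(h3.2 (h2.1 ⟨h, hxV⟩).1).1, (h4.2 (h2.1 ⟨h, hxV⟩).2).1⟩,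
    fun h => (h2.2 ⟨h3.1 ⟨h.1, hxV⟩, h4.1 ⟨h.2, hxV⟩⟩).1⟩

theorem locus_powElt (hL : PicF.IsInvertible L) {U : X.Opens} (a : Γ(L, U)) :
    ∀ n, locus (powElt a (n + 1)) = locus a
  | 0 => by
    rw [powElt_succ, locus_tmul (InvX.isInvertible_tensorPow hL 0) hL]
    refine inf_eq_right.2 ((locus_le a).trans (le_locus _ le_rfl ?_))
    rw [AModX.res_self]
    exact InvX.isFrame_one U
  | n + 1 => by
    rw [powElt_succ, locus_tmul (InvX.isInvertible_tensorPow hL _) hL, locus_powElt hL a n, inf_idem]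

theorem exists_pow_section (hL : PicF.IsInvertible L) {U : X.Opens} {m : ℕ}
    (a : Γ(CohB1.tensorPow L m, U)) {n : ℕ} (hn : 0 < n) :
    ∃ b : Γ(CohB1.tensorPow L (m * n), U), locus b = locus a := by
  obtain ⟨k, rfl⟩ := Nat.exists_eq_add_of_le' hn
  obtain ⟨b, hb⟩ := exists_locus_cl (N := CohB1.tensorPow L (m * (k + 1)))
    (show PicF.cl (CohB1.tensorPow (CohB1.tensorPow L m) (k + 1)) = _ by
      rw [cl_tensorPow, cl_tensorPow, cl_tensorPow, pow_mul]) (powElt a (k + 1))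
  exact ⟨b, hb.trans (locus_powElt (InvX.isInvertible_tensorPow hL m) a k)⟩

theorem exists_tensor_section (hL : PicF.IsInvertible L) (hL' : PicF.IsInvertible L') {U : X.Opens}
    {m n : ℕ} (hm : 0 < m) (hn : 0 < n) (a : Γ(CohB1.tensorPow L m, U)) (b : Γ(CohB1.tensorPow L' n, U)) :
    ∃ c : Γ(CohB1.tensorPow (CohB1.tensorMod L L') (m * n), U), locus c = locus a ⊓ locus b := by
  obtain ⟨a', ha'⟩ := exists_pow_section hL a hn
  obtain ⟨b', hb'⟩ := exists_pow_section hL' b hm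
  obtain ⟨c, hc⟩ := exists_locus_cl (N := CohB1.tensorPow (CohB1.tensorMod L L') (m * n))
    (show PicF.cl (CohB1.tensorMod (CohB1.tensorPow L (m * n)) (CohB1.tensorPow L' (n * m))) = _ by
      rw [cl_tensor, cl_tensorPow, cl_tensorPow, cl_tensorPow, cl_tensor, mul_comm n m, mul_pow])
    (InvX.tmul a' b')
  exact ⟨c, by rw [hc, locus_tmul (InvX.isInvertible_tensorPow hL _) (InvX.isInvertible_tensorPow hL' _),
    ha', hb']⟩

theorem isAffineOpen_inf_locus (hM : PicF.IsInvertible M) {U V : X.Opens} (hV : IsAffineOpen V)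
    (a : Γ(M, U)) (h : V ≤ U) : IsAffineOpen (V ⊓ locus a) := by
  let j := V.ι
  haveI : IsAffine V.toScheme := hV
  have hjV : j ''ᵁ ⊤ ≤ U := V.ι_image_top.le.trans h
  let s : Coh.structureModule V.toScheme ⟶ M.restrict j :=
    InvX.ofSect (M := M.restrict j) (AModX.res M hjV a)
  have h1 := (isAffineOpen_inf_genLocus (isInvertible_restrict j hM) (isAffineOpen_top V.toScheme) s)
  rw [top_inf_eq] at h1
  have h2 := h1.image_of_isOpenImmersion j
  rw [genLocus_eq_locus, InvX.one_ofSect, image_locus, locus_res, Scheme.Opens.ι_image_top, inf_comm] at h2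
  exact h2

/-- A criterion for relative ampleness by sections over preimages of opens of the base. -/
theorem isRelAmple_of_sections {f : X ⟶ Y} [QuasiCompact f] (hL : PicF.IsInvertible L)
    (h : ∀ x : X, ∃ O : Y.Opens, f x ∈ O ∧ IsCompact ((f ⁻¹ᵁ O : X.Opens) : Set X) ∧ ∀ x' : X, f x' ∈ O →
      ∃ (m : ℕ) (_ : 0 < m) (a : Γ(CohB1.tensorPow L m, f ⁻¹ᵁ O)), x' ∈ locus a ∧ IsAffineOpen (locus a)) :
    RelAmple.IsRelAmple f L :=
  isRelAmple_of_ampleOn fun x => by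
    obtain ⟨O, hxO, hc, hO⟩ := h x
    refine ⟨O, _, (f ⁻¹ᵁ O).ι, inferInstance, hxO, by rw [Scheme.Opens.opensRange_ι],
      (isAmple_restrict_iff _ hL).2 ⟨isCompact_iff_compactSpace.mp hc, fun z => ?_⟩⟩
    obtain ⟨m, hm, a, hza, ha⟩ := hO z.1 z.2
    refine ⟨m, hm, AModX.res _ (f ⁻¹ᵁ O).ι_image_top.le a, ?_⟩
    rw [locus_res, (f ⁻¹ᵁ O).ι_image_top, inf_eq_left.2 (locus_le a)]
    exact ⟨hza, ha⟩

/-- Sections over preimages of affines with small affine loci. -/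
theorem exists_sections_of_isRelAmple {f : X ⟶ Y} (h : RelAmple.IsRelAmple f L) {V : Y.Opens}
    (hV : IsAffineOpen V) {x : X} (hx : f x ∈ V) {U : X.Opens} (hxU : x ∈ U) :
    ∃ (m : ℕ) (_ : 0 < m) (a : Γ(CohB1.tensorPow L m, f ⁻¹ᵁ V)),
      x ∈ locus a ∧ locus a ≤ U ∧ IsAffineOpen (locus a) := by
  obtain ⟨m, hm, a, hxa, hle, ha⟩ := exists_locus_le (f ⁻¹ᵁ V).ι (h.2 ⟨V, hV⟩)
    (x := x) (by rw [Scheme.Opens.ι_image_top]; exact hx) hxU
  refine ⟨m, hm, AModX.res _ (f ⁻¹ᵁ V).ι_image_top.ge a, ?_⟩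
  rw [locus_res, inf_eq_left.2 ((locus_le a).trans (f ⁻¹ᵁ V).ι_image_top.le)]
  exact ⟨hxa, hle, ha⟩

/-- Gluing a section on an open piece with zero on a disjoint one. -/
theorem exists_section_extend_zero (hM : PicF.IsInvertible M) {U U' W' : X.Opens} (hU : U ≤ W') (hU' : U' ≤ W')
    (hcov : W' ≤ U ⊔ U') (hdisj : U ⊓ U' = ⊥) (a : Γ(M, U)) :
    ∃ b : Γ(M, W'), locus b = locus a := by
  have hsub : ∀ (V : X.Opens), V = ⊥ → ∀ s t : Γ(M, V), s = t := fun V hV s t => by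
    refine AModX.eq_of_locally _ _ fun p hp => absurd hp ?_
    rw [hV]; exact id
  obtain ⟨b, hb, -⟩ := AModX.existsUnique_glue (M := M) (V := W') (ι := ULift.{u} Bool)
    (fun i => bif i.down then U else U') (fun ⟨i⟩ => by cases i <;> assumption)
    (fun p hp => (hcov hp).elim (fun h => ⟨⟨true⟩, h⟩) (fun h => ⟨⟨false⟩, h⟩))
    (fun ⟨i⟩ => match i with | true => a | false => 0)
    (fun ⟨i⟩ ⟨j⟩ => by
      cases i <;> cases j
      · rfl
      · exact hsub _ (by rw [← hdisj]; exact inf_comm _ _) _ _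
      · exact hsub _ hdisj _ _
      · rfl)
  have h1 : AModX.res M hU b = a := hb ⟨true⟩
  have h2 : AModX.res M hU' b = 0 := hb ⟨false⟩
  refine ⟨b, le_antisymm (fun x hx => ?_) ?_⟩
  · rcases hcov (locus_le b hx) with hxU | hxU'
    · rw [← h1, locus_res]; exact ⟨hx, hxU⟩
    · exfalso
      have h3 : x ∈ locus (AModX.res M hU' b) := by rw [locus_res]; exact ⟨hx, hxU'⟩
      rw [h2, ← zero_smul Γ(X, U') (0 : Γ(M, U')), locus_smul hM, Scheme.basicOpen_zero] at h3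
      exact h3.2
  · rw [← h1, locus_res]; exact inf_le_left

end Groth.Agent.AmpleX
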