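import Groth.Agent.AmpleX.Extend
import Groth.Prelude.Def_SecTwist

/-!
# Extending and killing sections over the generating locus, quasi-separated case
-/

universe u

open CategoryTheory AlgebraicGeometry TopologicalSpace Opposite

set_option backward.isDefEq.respectTransparency false
set_option backward.isDefEq.respectTransparency.types false

namespace Groth.Agent.AmpleX

open Groth.Agent

variable {X : Scheme.{u}} {M L : X.Modules}

theorem pow_eq_powElt (s : Coh.structureModule X ⟶ L) (U : X.Opens) :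
    ∀ n, SecTwist.pow s n U = powElt (AModX.res L (le_top : U ≤ ⊤) (InvX.one s)) n
  | 0 => rfl
  | n + 1 => by
    show SecTwist.tmul _ _ _ (SecTwist.pow s n U) (SecTwist.val s U) = InvX.tmul _ _
    rw [pow_eq_powElt s U n, ← SecTwist.map_val s (homOfLE (le_top : U ≤ ⊤))]
    rfl

/-- A section vanishing on the generating locus of `s` is killed by a power of `s`. -/
theorem exists_killed [CompactSpace X] (hM : Coh.IsQCoh M) (hL : PicF.IsInvertible L)
    (s : Coh.structureModule X ⟶ L) (t : Γ(M, ⊤))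
    (ht : AModX.res M (le_top : CohB1.genLocus L s ≤ ⊤) t = 0) :
    ∃ n₀ : ℕ, ∀ n, n₀ ≤ n → InvX.tmul t (powElt (InvX.one s) n) = 0 := by
  classical
  let G := CohB1.genLocus L s
  have hloc : ∀ x : X, ∃ (U : X.Opens) (_ : IsAffineOpen U) (_ : x ∈ U) (e : Γ(L, U)), InvX.IsFrame e :=
    fun x => by
    obtain ⟨U, hxU, e, he⟩ := InvX.exists_frame hL x
    obtain ⟨_, ⟨W, hW, rfl⟩, hxW, hle⟩ :=
      X.isBasis_affineOpens.exists_subset_of_mem_open (show x ∈ U from hxU) U.2
    exact ⟨W, hW, hxW, _, he.res (show W ≤ U from hle)⟩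
  choose U hU hxU e he using hloc
  obtain ⟨S, hS⟩ := isCompact_univ.elim_finite_subcover (fun x => (U x : Set X)) (fun x => (U x).2)
    (fun x _ => Set.mem_iUnion.2 ⟨x, hxU x⟩)
  choose g hg using fun x => (he x).exists_coord le_rfl (AModX.res L (le_top : U x ≤ ⊤) (InvX.one s))
  simp only [AModX.res_self] at hg
  have hD : ∀ x, G ⊓ U x = X.basicOpen (g x) := fun x => InvX.genLocus_inf s (he x) (hg x)
  have hk : ∀ x, ∃ m : ℕ, g x ^ m • AModX.res M (le_top : U x ≤ ⊤) t = 0 := fun x => by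
    refine QCoh.exists_pow_smul_eq_zero_of_isCompact hM (hU x).isCompact _ _ ?_
    show AModX.res M (X.basicOpen_le (g x)) _ = 0
    rw [AModX.res_res, ← AModX.res_res (le_top : G ≤ ⊤) ((hD x).ge.trans inf_le_left), ht, map_zero]
  choose m hm using hk
  refine ⟨S.sup m, fun n hn => AModX.eq_of_locally _ _ fun p hp => ?_⟩
  obtain ⟨x, hxS, hpx⟩ := Set.mem_iUnion₂.1 (hS (Set.mem_univ p))
  refine ⟨U x, le_top, hpx, ?_⟩
  obtain ⟨j, hj⟩ := Nat.exists_eq_add_of_le ((Finset.le_sup hxS).trans hn)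
  rw [map_zero, InvX.res_tmul, res_powElt, hg x, powElt_smul, InvX.tmul_smul_right, ← InvX.tmul_smul_left, hj,
    pow_add, mul_comm, mul_smul, hm x, smul_zero, ← zero_smul Γ(X, U x) (0 : Γ(M, U x)), InvX.tmul_smul_left,
    zero_smul]

/-- A section over the generating locus of `s` extends after multiplication by a power of `s`. -/
theorem exists_extend' [CompactSpace X] [QuasiSeparatedSpace X] (hM : Coh.IsQCoh M) (hL : PicF.IsInvertible L)
    (s : Coh.structureModule X ⟶ L) (t : Γ(M, CohB1.genLocus L s)) :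
    ∃ n₀ : ℕ, ∀ n, n₀ ≤ n → ∃ T : Γ(CohB1.tensorMod M (CohB1.tensorPow L n), ⊤),
      AModX.res _ (le_top : CohB1.genLocus L s ≤ ⊤) T =
        InvX.tmul t (powElt (AModX.res L (le_top : CohB1.genLocus L s ≤ ⊤) (InvX.one s)) n) := by
  classical
  let G := CohB1.genLocus L s
  have hloc : ∀ x : X, ∃ (U : X.Opens) (_ : IsAffineOpen U) (_ : x ∈ U) (e : Γ(L, U)), InvX.IsFrame e :=
    fun x => by
    obtain ⟨U, hxU, e, he⟩ := InvX.exists_frame hL x
    obtain ⟨_, ⟨W, hW, rfl⟩, hxW, hle⟩ :=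
      X.isBasis_affineOpens.exists_subset_of_mem_open (show x ∈ U from hxU) U.2
    exact ⟨W, hW, hxW, _, he.res (show W ≤ U from hle)⟩
  choose U hU hxU e he using hloc
  obtain ⟨S, hS⟩ := isCompact_univ.elim_finite_subcover (fun x => (U x : Set X)) (fun x => (U x).2)
    (fun x _ => Set.mem_iUnion.2 ⟨x, hxU x⟩)
  choose g hg using fun x => (he x).exists_coord le_rfl (AModX.res L (le_top : U x ≤ ⊤) (InvX.one s))
  simp only [AModX.res_self] at hg
  have hD : ∀ x, G ⊓ U x = X.basicOpen (g x) := fun x => InvX.genLocus_inf s (he x) (hg x)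
  have hDle : ∀ x, X.basicOpen (g x) ≤ G := fun x => (hD x).ge.trans inf_le_left
  choose nx ax hax using fun x =>
    QCoh.exists_pow_smul_eq_map hM (hU x) (g x) (AModX.res M (hDle x) t)
  let N := S.sup nx
  obtain ⟨a, ha⟩ : ∃ a : ∀ x, Γ(M, U x), ∀ x ∈ S, AModX.res M (X.basicOpen_le (g x)) (a x) =
      AModX.resR (X.basicOpen_le (g x)) (g x) ^ N • AModX.res M (hDle x) t := by
    refine ⟨fun x => g x ^ (N - nx x) • ax x, fun x hx => ?_⟩
    rw [AModX.res_smul, map_pow]
    refine (congrArg (_ • ·) (hax x)).trans ?_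
    rw [← mul_smul]
    refine congrArg (· • _) ?_
    show _ * AModX.resR (X.basicOpen_le (g x)) (g x) ^ nx x = _
    rw [← pow_add, Nat.sub_add_cancel (Finset.le_sup hx)]
  -- transition functions
  choose u hu using fun x y => (he x).exists_coord (inf_le_left : U x ⊓ U y ≤ U x)
    (AModX.res L (inf_le_right : U x ⊓ U y ≤ U y) (e y))
  have hgu : ∀ x y, AModX.resR (inf_le_left : U x ⊓ U y ≤ U x) (g x) =
      AModX.resR (inf_le_right : U x ⊓ U y ≤ U y) (g y) * u x y := fun x y => by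
    refine (he x).coord_unique inf_le_left ?_
    rw [mul_smul, ← hu, ← AModX.res_smul, ← AModX.res_smul, ← hg, ← hg, AModX.res_res, AModX.res_res]
  have hcompat : ∀ x ∈ S, ∀ y ∈ S, ∃ m : ℕ,
      AModX.resR (inf_le_left : U x ⊓ U y ≤ U x) (g x) ^ m •
        (AModX.res M inf_le_left (a x) - u x y ^ N • AModX.res M inf_le_right (a y)) = 0 := by
    intro x hx y hy
    refine QCoh.exists_pow_smul_eq_zero_of_isCompact hM
      (show IsCompact ((U x : Set X) ∩ U y) from (QuasiSeparatedSpace.inter_isCompact (U x : Set X) (U y) (U x).2 (hU x).isCompact (U y).2 (hU y).isCompact)) _ _ ?_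
    let W := U x ⊓ U y
    let gW := AModX.resR (inf_le_left : W ≤ U x) (g x)
    have hbW : X.basicOpen gW = W ⊓ X.basicOpen (g x) := X.basicOpen_res _ _
    have h1 : X.basicOpen gW ≤ X.basicOpen (g x) := hbW.le.trans inf_le_right
    have h2 : X.basicOpen gW ≤ X.basicOpen (g y) := by
      rw [← hD y]
      exact le_inf (h1.trans (hDle x)) ((X.basicOpen_le _).trans inf_le_right)
    show AModX.res M (X.basicOpen_le gW) _ = 0
    rw [map_sub, sub_eq_zero, AModX.res_smul, AModX.res_res, AModX.res_res,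
      ← AModX.res_res (X.basicOpen_le (g x)) h1, ha x hx,
      ← AModX.res_res (X.basicOpen_le (g y)) h2 (a y), ha y hy, AModX.res_smul, AModX.res_smul,
      AModX.res_res, AModX.res_res, map_pow, map_pow, map_pow, ← mul_smul, ← mul_pow,
      AModX.resR_resR, AModX.resR_resR]
    congr 2
    have h3 := congrArg (AModX.resR (X.basicOpen_le gW)) (hgu x y)
    rw [map_mul, AModX.resR_resR, AModX.resR_resR] at h3
    rw [h3, mul_comm]
  choose! m hm using hcompat
  let m₀ := (S ×ˢ S).sup fun p => m p.1 p.2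
  refine ⟨N + m₀, fun n hn => ?_⟩
  obtain ⟨k, rfl⟩ := Nat.exists_eq_add_of_le (le_trans (Nat.le_add_right N m₀) hn)
  have hk : m₀ ≤ k := by omega
  let T : ∀ x : S, Γ(CohB1.tensorMod M (CohB1.tensorPow L (N + k)), U x) := fun x =>
    InvX.tmul (g x ^ k • a x) (powElt (e x) (N + k))
  obtain ⟨T₀, hT₀, -⟩ := AModX.existsUnique_glue (M := CohB1.tensorMod M (CohB1.tensorPow L (N + k)))
    (V := (⊤ : X.Opens)) (fun x : S => U x) (fun _ => le_top)
    (fun p _ => by
      obtain ⟨x, hxS, hpx⟩ := Set.mem_iUnion₂.1 (hS (Set.mem_univ p))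
      exact ⟨⟨x, hxS⟩, hpx⟩) T
    (fun x y => by
      show AModX.res _ _ (InvX.tmul _ _) = AModX.res _ _ (InvX.tmul _ _)
      have hu' := hu x.1 y.1
      rw [InvX.res_tmul, InvX.res_tmul, res_powElt, res_powElt, hu', powElt_smul, InvX.tmul_smul_right,
        ← InvX.tmul_smul_left]
      refine congrArg (fun z => InvX.tmul z _) ?_
      have h0 := hm x.1 x.2 y.1 y.2
      obtain ⟨j, hj⟩ := Nat.exists_eq_add_of_le ((Finset.le_sup (f := fun p : X × X => m p.1 p.2)
        (Finset.mk_mem_product x.2 y.2)).trans hk)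
      have h1 : AModX.resR (inf_le_left : U x.1 ⊓ U y.1 ≤ U x.1) (g x.1) ^ k •
          (AModX.res M inf_le_left (a x.1) - u x.1 y.1 ^ N • AModX.res M inf_le_right (a y.1)) = 0 := by
        rw [hj, pow_add, mul_comm, mul_smul, h0, smul_zero]
      rw [smul_sub, sub_eq_zero] at h1
      rw [AModX.res_smul, AModX.res_smul, map_pow, map_pow]
      refine h1.trans ?_
      rw [← mul_smul, ← mul_smul, hgu, mul_pow, pow_add]
      congr 1
      ring)
  refine ⟨T₀, AModX.eq_of_locally _ _ fun p hp => ?_⟩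
  obtain ⟨x, hxS, hpx⟩ := Set.mem_iUnion₂.1 (hS (Set.mem_univ p))
  refine ⟨X.basicOpen (g x), hDle x, ?_, ?_⟩
  · rw [← hD x]; exact ⟨hp, hpx⟩
  rw [AModX.res_res, ← AModX.res_res (le_top : U x ≤ ⊤) (X.basicOpen_le (g x)), hT₀ ⟨x, hxS⟩,
    InvX.res_tmul, InvX.res_tmul, AModX.res_smul, ha x hxS, map_pow, ← mul_smul, ← pow_add,
    InvX.tmul_smul_left, ← InvX.tmul_smul_right, res_powElt, res_powElt, AModX.res_res,
    ← AModX.res_res (le_top : U x ≤ ⊤) (X.basicOpen_le (g x)) (InvX.one s), hg x, AModX.res_smul,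
    powElt_smul, add_comm k N]

end Groth.Agent.AmpleX
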