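import Groth.Agent.AmpleX.Sect
import Mathlib.AlgebraicGeometry.Morphisms.QuasiCompact

/-!
# Relative ampleness under base change and fibre products
-/

universe u

open CategoryTheory CategoryTheory.Limits AlgebraicGeometry TopologicalSpace
open Groth.Agent.H23.PicMul

set_option backward.isDefEq.respectTransparency false
set_option backward.isDefEq.respectTransparency.types false

namespace Groth.Agent.AmpleX

open Groth.Agent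

/-- Affine opens in fibre products. -/
theorem isAffineOpen_fst_inf_snd {X Y S : Scheme.{u}} (f : X ⟶ S) (g : Y ⟶ S) {U : S.Opens}
    (hU : IsAffineOpen U) {A : X.Opens} (hA : IsAffineOpen A) {B : Y.Opens} (hB : IsAffineOpen B)
    (hAU : A ≤ f ⁻¹ᵁ U) (hBU : B ≤ g ⁻¹ᵁ U) :
    IsAffineOpen (pullback.fst f g ⁻¹ᵁ A ⊓ pullback.snd f g ⁻¹ᵁ B) := by
  haveI : IsAffine _ := hU
  haveI : IsAffine _ := hA
  haveI : IsAffine _ := hB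
  exact .of_isIso (Scheme.Hom.isPullback_resLE (IsPullback.of_hasPullback f g) (UX := A) (US := U) hBU hAU
    (rfl : pullback.fst f g ⁻¹ᵁ A ⊓ pullback.snd f g ⁻¹ᵁ B = _)).isoPullback.hom

theorem isRelAmple_baseChange {X Y Y' : Scheme.{u}} (f : X ⟶ Y) (g : Y' ⟶ Y) {L : X.Modules}
    (hL : RelAmple.IsRelAmple f L) :
    RelAmple.IsRelAmple (pullback.snd f g) ((Scheme.Modules.pullback (pullback.fst f g)).obj L) := by
  haveI := hL.1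
  have hinv := isInvertible_of_isRelAmple hL
  refine isRelAmple_of_sections (PicClLib.isInvertible_pullback _ hinv) fun z => ?_
  obtain ⟨U, hU, hzU, -⟩ := exists_isAffineOpen_mem_and_subset
    (x := g (pullback.snd f g z)) (U := ⊤) trivial
  obtain ⟨V, hV, hzV, hVU⟩ := exists_isAffineOpen_mem_and_subset
    (show pullback.snd f g z ∈ g ⁻¹ᵁ U from hzU)
  refine ⟨V, hzV, (pullback.snd f g).isCompact_preimage hV.isCompact, fun x' hx' => ?_⟩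
  have hxU : f (pullback.fst f g x') ∈ U := by
    rw [← Scheme.Hom.comp_apply, pullback.condition, Scheme.Hom.comp_apply]; exact hVU hx'
  obtain ⟨m, hm, a, hxa, hle, ha⟩ := exists_sections_of_isRelAmple hL hU hxU (U := ⊤) trivial
  obtain ⟨b, hb⟩ := exists_pull_section hinv (pullback.fst f g) a
  have hVle : pullback.snd f g ⁻¹ᵁ V ≤ pullback.fst f g ⁻¹ᵁ (f ⁻¹ᵁ U) := fun y hy => by
    show f (pullback.fst f g y) ∈ U
    rw [← Scheme.Hom.comp_apply, pullback.condition, Scheme.Hom.comp_apply]; exact hVU hy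
  refine ⟨m, hm, AModX.res _ hVle b, ?_⟩
  rw [locus_res, hb]
  exact ⟨⟨hxa, hx'⟩, isAffineOpen_fst_inf_snd f g hU ha hV (locus_le a) hVU⟩

theorem isRelAmple_prod {X₁ X₂ Y₁ Y₂ S : Scheme.{u}} (a₁ : Y₁ ⟶ S) (a₂ : Y₂ ⟶ S)
    (f₁ : X₁ ⟶ Y₁) (f₂ : X₂ ⟶ Y₂) {L₁ : X₁.Modules} {L₂ : X₂.Modules}
    (hL₁ : RelAmple.IsRelAmple f₁ L₁) (hL₂ : RelAmple.IsRelAmple f₂ L₂) :
    RelAmple.IsRelAmple
      (pullback.map (f₁ ≫ a₁) (f₂ ≫ a₂) a₁ a₂ f₁ f₂ (𝟙 S) (Category.comp_id (f₁ ≫ a₁)) (Category.comp_id (f₂ ≫ a₂)))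
      (CohB1.tensorMod ((Scheme.Modules.pullback (pullback.fst (f₁ ≫ a₁) (f₂ ≫ a₂))).obj L₁)
        ((Scheme.Modules.pullback (pullback.snd (f₁ ≫ a₁) (f₂ ≫ a₂))).obj L₂)) := by
  haveI := hL₁.1
  haveI := hL₂.1
  let p₁ := pullback.fst (f₁ ≫ a₁) (f₂ ≫ a₂)
  let p₂ := pullback.snd (f₁ ≫ a₁) (f₂ ≫ a₂)
  let q₁ := pullback.fst a₁ a₂
  let q₂ := pullback.snd a₁ a₂
  let φ := pullback.map (f₁ ≫ a₁) (f₂ ≫ a₂) a₁ a₂ f₁ f₂ (𝟙 S) (Category.comp_id (f₁ ≫ a₁))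
    (Category.comp_id (f₂ ≫ a₂))
  haveI : QuasiCompact φ := MorphismProperty.pullbackMap (P := @QuasiCompact) hL₁.1 hL₂.1 rfl rfl
  have hφ₁ : φ ≫ q₁ = p₁ ≫ f₁ := pullback.lift_fst _ _ _
  have hφ₂ : φ ≫ q₂ = p₂ ≫ f₂ := pullback.lift_snd _ _ _
  have hi₁ := isInvertible_of_isRelAmple hL₁
  have hi₂ := isInvertible_of_isRelAmple hL₂
  refine isRelAmple_of_sections (InvX.isInvertible_tensorMod (PicClLib.isInvertible_pullback _ hi₁)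
    (PicClLib.isInvertible_pullback _ hi₂)) fun z => ?_
  obtain ⟨U, hU, hzU, -⟩ := exists_isAffineOpen_mem_and_subset (x := a₁ (q₁ (φ z))) (U := ⊤) trivial
  obtain ⟨V₁, hV₁, hzV₁, hV₁U⟩ := exists_isAffineOpen_mem_and_subset (show q₁ (φ z) ∈ a₁ ⁻¹ᵁ U from hzU)
  have hzU₂ : q₂ (φ z) ∈ a₂ ⁻¹ᵁ U := by
    show a₂ (q₂ (φ z)) ∈ U
    rw [← Scheme.Hom.comp_apply q₂, ← pullback.condition, Scheme.Hom.comp_apply]; exact hzU
  obtain ⟨V₂, hV₂, hzV₂, hV₂U⟩ := exists_isAffineOpen_mem_and_subset hzU₂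
  let O := q₁ ⁻¹ᵁ V₁ ⊓ q₂ ⁻¹ᵁ V₂
  have hO : IsAffineOpen O := isAffineOpen_fst_inf_snd a₁ a₂ hU hV₁ hV₂ hV₁U hV₂U
  refine ⟨O, ⟨hzV₁, hzV₂⟩, φ.isCompact_preimage hO.isCompact, fun x' hx' => ?_⟩
  have e₁ : q₁ (φ x') = f₁ (p₁ x') := by rw [← Scheme.Hom.comp_apply, hφ₁, Scheme.Hom.comp_apply]
  have e₂ : q₂ (φ x') = f₂ (p₂ x') := by rw [← Scheme.Hom.comp_apply, hφ₂, Scheme.Hom.comp_apply]
  obtain ⟨m, hm, a, hxa, -, ha⟩ := exists_sections_of_isRelAmple hL₁ hV₁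
    (x := p₁ x') (e₁ ▸ hx'.1) (U := ⊤) trivial
  obtain ⟨n, hn, b, hxb, -, hb⟩ := exists_sections_of_isRelAmple hL₂ hV₂
    (x := p₂ x') (e₂ ▸ hx'.2) (U := ⊤) trivial
  obtain ⟨a', ha'⟩ := exists_pull_section hi₁ p₁ a
  obtain ⟨b', hb'⟩ := exists_pull_section hi₂ p₂ b
  have h1 : φ ⁻¹ᵁ O ≤ p₁ ⁻¹ᵁ (f₁ ⁻¹ᵁ V₁) := fun y hy => by
    show f₁ (p₁ y) ∈ V₁
    rw [← Scheme.Hom.comp_apply, ← hφ₁, Scheme.Hom.comp_apply]; exact hy.1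
  have h2 : φ ⁻¹ᵁ O ≤ p₂ ⁻¹ᵁ (f₂ ⁻¹ᵁ V₂) := fun y hy => by
    show f₂ (p₂ y) ∈ V₂
    rw [← Scheme.Hom.comp_apply, ← hφ₂, Scheme.Hom.comp_apply]; exact hy.2
  obtain ⟨c, hc⟩ := exists_tensor_section (PicClLib.isInvertible_pullback _ hi₁)
    (PicClLib.isInvertible_pullback _ hi₂) hm hn (AModX.res _ h1 a') (AModX.res _ h2 b')
  refine ⟨m * n, Nat.mul_pos hm hn, c, ?_⟩
  rw [hc, locus_res, locus_res, ha', hb']
  refine ⟨⟨⟨hxa, hx'⟩, ⟨hxb, hx'⟩⟩, ?_⟩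
  have hsub : p₁ ⁻¹ᵁ locus a ⊓ p₂ ⁻¹ᵁ locus b ≤ φ ⁻¹ᵁ O := fun y hy => by
    refine ⟨?_, ?_⟩
    · show q₁ (φ y) ∈ V₁
      rw [← Scheme.Hom.comp_apply, hφ₁, Scheme.Hom.comp_apply]; exact locus_le a hy.1
    · show q₂ (φ y) ∈ V₂
      rw [← Scheme.Hom.comp_apply, hφ₂, Scheme.Hom.comp_apply]; exact locus_le b hy.2
  rw [inf_inf_inf_comm, inf_idem, inf_eq_left.2 hsub]
  exact isAffineOpen_fst_inf_snd (f₁ ≫ a₁) (f₂ ≫ a₂) hU ha hb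
    ((locus_le a).trans (f₁.preimage_mono hV₁U)) ((locus_le b).trans (f₂.preimage_mono hV₂U))

end Groth.Agent.AmpleX
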