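import Groth.Agent.AmpleX.Locus
import Groth.Agent.QCoh.Qcqs
import Groth.Agent.ProjUPX.Affine

/-!
# Relative ampleness: locality and formal properties
-/

universe u

open CategoryTheory CategoryTheory.Limits AlgebraicGeometry TopologicalSpace
open Groth.Agent.H23.PicMul

set_option backward.isDefEq.respectTransparency false
set_option backward.isDefEq.respectTransparency.types false

namespace Groth.Agent.AmpleX

open Groth.Agent

variable {X Y : Scheme.{u}} {L : X.Modules}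

lemma exists_frame_of_isInvertible_restrict {Z : Scheme.{u}} (j : Z ⟶ X) [IsOpenImmersion j]
    (h : PicF.IsInvertible (L.restrict j)) {x : X} (hx : x ∈ j.opensRange) :
    ∃ (U : X.Opens) (_ : x ∈ U) (e : Γ(L, U)), InvX.IsFrame e := by
  obtain ⟨z, rfl⟩ := hx
  obtain ⟨U, hz, e, he⟩ := InvX.exists_frame h z
  exact ⟨j ''ᵁ U, ⟨z, hz, rfl⟩, e, (isFrame_restrict_iff j _).1 he⟩

theorem isInvertible_of_restrict_cover
    (h : ∀ x : X, ∃ (Z : Scheme.{u}) (j : Z ⟶ X) (_ : IsOpenImmersion j), x ∈ j.opensRange ∧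
      PicF.IsInvertible (L.restrict j)) : PicF.IsInvertible L :=
  InvX.isInvertible_of_frames fun x => by
    obtain ⟨Z, j, hj, hx, hL⟩ := h x
    exact exists_frame_of_isInvertible_restrict j hL hx

variable {f : X ⟶ Y}

theorem isInvertible_of_isRelAmple (h : RelAmple.IsRelAmple f L) : PicF.IsInvertible L :=
  isInvertible_of_restrict_cover fun x => by
    obtain ⟨_, ⟨V, hV, rfl⟩, hxV, -⟩ :=
      Y.isBasis_affineOpens.exists_subset_of_mem_open (Set.mem_univ (f x)) isOpen_univ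
    exact ⟨_, (f ⁻¹ᵁ V).ι, inferInstance, by rw [Scheme.Opens.opensRange_ι]; exact hxV, (h.2 ⟨V, hV⟩).1⟩

/-- Ampleness on open subschemes only depends on the image. -/
theorem isAmple_restrict_congr {Z Z' : Scheme.{u}} (j : Z ⟶ X) [IsOpenImmersion j] (k : Z' ⟶ X)
    [IsOpenImmersion k] (hL : PicF.IsInvertible L) (e : j.opensRange = k.opensRange)
    (h : CohB1.IsAmple (L.restrict j)) : CohB1.IsAmple (L.restrict k) := by
  obtain ⟨hc, hx⟩ := (isAmple_restrict_iff j hL).1 h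
  have e' : j ''ᵁ ⊤ = k ''ᵁ ⊤ := by
    rw [Scheme.Hom.image_top_eq_opensRange, Scheme.Hom.image_top_eq_opensRange, e]
  refine (isAmple_restrict_iff k hL).2 ⟨⟨?_⟩, fun z => ?_⟩
  · rw [k.isOpenEmbedding.isInducing.isCompact_iff, Set.image_univ, ← Scheme.Hom.coe_opensRange, ← e,
      Scheme.Hom.coe_opensRange, ← Set.image_univ]
    exact isCompact_univ.image j.continuous
  · obtain ⟨z', hz'⟩ : k z ∈ j.opensRange := e ▸ ⟨z, rfl⟩
    obtain ⟨m, hm, a, hza, ha⟩ := hx z'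
    refine ⟨m, hm, AModX.res (CohB1.tensorPow L m) e'.ge a, ?_⟩
    rw [locus_res, inf_eq_left.2 ((locus_le a).trans e'.le)]
    exact ⟨hz' ▸ hza, ha⟩

/-- Sections on the preimage of a basic open give ampleness on the preimage of the affine open. -/
theorem isAmple_preimage_of_local [QuasiCompact f] [QuasiSeparated f] (hL : PicF.IsInvertible L)
    {V : Y.Opens} (hV : IsAffineOpen V)
    (h : ∀ x : X, f x ∈ V → ∃ (r : Γ(Y, V)) (m : ℕ) (_ : 0 < m)
      (a : Γ(CohB1.tensorPow L m, f ⁻¹ᵁ Y.basicOpen r)), x ∈ locus a ∧ IsAffineOpen (locus a)) :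
    CohB1.IsAmple (L.restrict (f ⁻¹ᵁ V).ι) := by
  refine (isAmple_restrict_iff _ hL).2 ⟨isCompact_iff_compactSpace.mp (f.isCompact_preimage hV.isCompact),
    fun z => ?_⟩
  obtain ⟨r, m, hm, a, hza, ha⟩ := h z.1 z.2
  let W := f ⁻¹ᵁ V
  let g : Γ(X, W) := f.app V r
  have hD : X.basicOpen g = f ⁻¹ᵁ Y.basicOpen r := (Scheme.preimage_basicOpen f r).symm
  have hLm := InvX.isInvertible_tensorPow hL m
  obtain ⟨n, t, ht⟩ := QCoh.exists_pow_smul_eq_map_of_isQuasiSeparated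
    (ProjUPX.isQCoh_of_isInvertible hLm) (f.isCompact_preimage hV.isCompact)
    (f.isQuasiSeparated_preimage hV.isQuasiSeparated) g (AModX.res (CohB1.tensorPow L m) hD.le a)
  let u := AModX.resR (X.basicOpen_le g) g
  have hu : X.basicOpen g ≤ X.basicOpen (u ^ n) := by
    rw [X.basicOpen_of_isUnit ((AModX.isUnit_resR _ _ le_rfl).pow n)]
  have h1 : locus (AModX.res (CohB1.tensorPow L m) (X.basicOpen_le g) t) = locus a := by
    have : AModX.res (CohB1.tensorPow L m) (X.basicOpen_le g) t =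
        u ^ n • AModX.res (CohB1.tensorPow L m) hD.le a := ht
    rw [this, locus_smul hLm, locus_res, inf_eq_left.2 ((locus_le a).trans hD.ge),
      inf_eq_left.2 (((locus_le a).trans hD.ge).trans hu)]
  have h2 : locus (g • t) = locus a := by rw [locus_smul hLm, ← h1, locus_res]
  refine ⟨m, hm, AModX.res (CohB1.tensorPow L m) W.ι_image_top.le (g • t), ?_⟩
  rw [locus_res, h2, inf_eq_left.2]
  · exact ⟨hza, ha⟩
  · rw [W.ι_image_top]
    exact (locus_le a).trans (f.preimage_mono (Y.basicOpen_le r))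

/-- An open immersion covering the preimage of an open on which `L` is ample. -/
def AmpleOn (f : X ⟶ Y) (L : X.Modules) (y : Y) : Prop :=
  ∃ (O : Y.Opens) (Z : Scheme.{u}) (j : Z ⟶ X) (_ : IsOpenImmersion j),
    y ∈ O ∧ f ⁻¹ᵁ O ≤ j.opensRange ∧ CohB1.IsAmple (L.restrict j)

theorem isSeparated_of_ampleOn (h : ∀ x : X, AmpleOn f L (f x)) : IsSeparated f := by
  refine H23.SepCrit.isSeparated_of_pairs_affine f fun x y hxy => ?_
  obtain ⟨O, Z, j, hj, hx, hle, hA⟩ := h x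
  obtain ⟨zx, hzx⟩ := hle (show x ∈ f ⁻¹ᵁ O from hx)
  obtain ⟨zy, hzy⟩ := hle (show y ∈ f ⁻¹ᵁ O from (hxy ▸ hx : f y ∈ O))
  obtain ⟨U, hU, hxU, hyU⟩ := exists_affine_pair hA zx zy
  exact ⟨j ''ᵁ U, hU.image_of_isOpenImmersion j, ⟨zx, hxU, hzx⟩, ⟨zy, hyU, hzy⟩⟩

/-- Relative ampleness is local on the base. -/
theorem isRelAmple_of_ampleOn [QuasiCompact f] (h : ∀ x : X, AmpleOn f L (f x)) :
    RelAmple.IsRelAmple f L := by
  have hL : PicF.IsInvertible L := isInvertible_of_restrict_cover fun x => by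
    obtain ⟨O, Z, j, hj, hx, hle, hA⟩ := h x
    exact ⟨Z, j, hj, hle hx, hA.1⟩
  haveI := isSeparated_of_ampleOn h
  refine ⟨inferInstance, fun V => isAmple_preimage_of_local hL V.2 fun x hxV => ?_⟩
  obtain ⟨O, Z, j, hj, hx, hle, hA⟩ := h x
  obtain ⟨r, hr, hxr⟩ := V.2.exists_basicOpen_le (V := O) ⟨f x, hx⟩ hxV
  have hrange : f ⁻¹ᵁ Y.basicOpen r ≤ j ''ᵁ (⊤ : Z.Opens) := by
    rw [Scheme.Hom.image_top_eq_opensRange]
    exact (f.preimage_mono hr).trans hle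
  obtain ⟨m, hm, a, hxa, hle', ha⟩ :=
    exists_locus_le j hA (hrange hxr) (U := f ⁻¹ᵁ Y.basicOpen r) hxr
  refine ⟨r, m, hm, AModX.res (CohB1.tensorPow L m) hrange a, ?_⟩
  rw [locus_res, inf_eq_left.2 hle']
  exact ⟨hxa, ha⟩

theorem ampleOn_of_isRelAmple (h : RelAmple.IsRelAmple f L) (y : Y) : AmpleOn f L y := by
  obtain ⟨_, ⟨V, hV, rfl⟩, hyV, -⟩ :=
    Y.isBasis_affineOpens.exists_subset_of_mem_open (Set.mem_univ y) isOpen_univ
  exact ⟨V, _, (f ⁻¹ᵁ V).ι, inferInstance, hyV, by rw [Scheme.Opens.opensRange_ι], h.2 ⟨V, hV⟩⟩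

theorem isRelAmple_of_comp {Z : Scheme.{u}} (g : Y ⟶ Z) [QuasiCompact f]
    (h : RelAmple.IsRelAmple (f ≫ g) L) : RelAmple.IsRelAmple f L :=
  isRelAmple_of_ampleOn fun x => by
    obtain ⟨O, W, j, hj, hx, hle, hA⟩ := ampleOn_of_isRelAmple h (g (f x))
    exact ⟨g ⁻¹ᵁ O, W, j, hj, hx, hle, hA⟩

theorem isRelAmple_iff_cover [QuasiCompact f] {ι : Type u} (U : ι → Y.Opens) (hU : ⨆ i, U i = ⊤) :
    RelAmple.IsRelAmple f L ↔ ∀ i, RelAmple.IsRelAmple (f ∣_ (U i)) (L.restrict (f ⁻¹ᵁ (U i)).ι) := by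
  have hcov : ∀ y : Y, ∃ i, y ∈ U i := fun y => Opens.mem_iSup.1 (hU.ge trivial)
  have hrange : ∀ i (W : (U i).toScheme.Opens),
      (((f ∣_ U i) ⁻¹ᵁ W).ι ≫ (f ⁻¹ᵁ U i).ι).opensRange = f ⁻¹ᵁ (U i).ι ''ᵁ W := fun i W => by
    rw [Scheme.Hom.opensRange_comp, Scheme.Opens.opensRange_ι, image_morphismRestrict_preimage]
  constructor
  · intro h i
    haveI : QuasiCompact (f ∣_ U i) := IsZariskiLocalAtTarget.restrict (P := @QuasiCompact) inferInstance (U i)
    have hL := isInvertible_of_isRelAmple h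
    refine ⟨inferInstance, fun W => isAmple_of_iso (QCoh.restrictRestrict L _ _).symm ?_⟩
    refine isAmple_restrict_congr (f ⁻¹ᵁ (U i).ι ''ᵁ W.1).ι _ hL ?_ (h.2 ⟨_, W.2.image_of_isOpenImmersion _⟩)
    rw [Scheme.Opens.opensRange_ι, hrange]
  · intro h
    refine isRelAmple_of_ampleOn fun x => ?_
    obtain ⟨i, hi⟩ := hcov (f x)
    obtain ⟨_, ⟨W, hW, rfl⟩, hxW, -⟩ :=
      (U i).toScheme.isBasis_affineOpens.exists_subset_of_mem_open (Set.mem_univ ⟨f x, hi⟩) isOpen_univ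
    refine ⟨(U i).ι ''ᵁ W, _, ((f ∣_ U i) ⁻¹ᵁ W).ι ≫ (f ⁻¹ᵁ U i).ι, inferInstance, ⟨_, hxW, rfl⟩,
      (hrange i W).ge, isAmple_of_iso (QCoh.restrictRestrict L _ _) ((h i).2 ⟨W, hW⟩)⟩

theorem isRelAmple_tensorPow_iff [QuasiCompact f] (hL : PicF.IsInvertible L) {n : ℕ} (hn : 0 < n) :
    RelAmple.IsRelAmple f L ↔ RelAmple.IsRelAmple f (CohB1.tensorPow L n) := by
  refine and_congr_right fun _ => forall_congr' fun V => ?_
  obtain ⟨e⟩ := nonempty_restrict_tensorPow (L := L) (f ⁻¹ᵁ V.1).ι n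
  exact ⟨fun h => isAmple_of_iso e.symm (isAmple_tensorPow h hn),
    fun h => isAmple_of_tensorPow (isInvertible_restrict _ hL) hn (isAmple_of_iso e h)⟩

theorem isRelAmple_tensor {L' : X.Modules} (hL : RelAmple.IsRelAmple f L) (hL' : RelAmple.IsRelAmple f L') :
    RelAmple.IsRelAmple f (CohB1.tensorMod L L') := by
  refine ⟨hL.1, fun V => ?_⟩
  let j := (f ⁻¹ᵁ V.1).ι
  obtain ⟨e⟩ := cl_eq_iff.1 (show PicF.cl (CohB1.tensorMod (L.restrict j) (L'.restrict j)) =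
      PicF.cl ((CohB1.tensorMod L L').restrict j) by
    rw [cl_tensor, cl_restrict, cl_restrict, cl_restrict, cl_tensor, pullCl_mul])
  obtain ⟨hL₁, hc₁, hx⟩ := hL'.2 V
  refine isAmple_of_iso e (isAmple_tensor (hL.2 V) hL₁ fun z => ?_)
  obtain ⟨m, s, hs, -⟩ := hx z
  exact ⟨m, s, hs⟩

end Groth.Agent.AmpleX
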