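import Groth.Agent.AmpleX.QAGenerated
import Groth.Agent.AmpleX.Rel
import Groth.Agent.AmpleX.Generated
import Groth.Agent.AmpleX.QAHom
import Groth.Agent.KFlatLib.Scheme.Cover

/-!
# Epimorphic counits: criteria and consequences
-/

universe u

open CategoryTheory CategoryTheory.Limits AlgebraicGeometry TopologicalSpace Opposite MonoidalCategory

set_option backward.isDefEq.respectTransparency false
set_option backward.isDefEq.respectTransparency.types false
set_option linter.style.haveILetI false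

namespace Groth.Agent.AmpleX

open Groth.Agent
open Groth.Agent.H23.PicMul

variable {X Y : Scheme.{u}} {M N L : X.Modules}

/-- Generation over preimages of opens of a cover makes the counit epimorphic. -/
theorem epi_counit_of_generated (f : X ⟶ Y) (G : X.Modules)
    (h : ∀ x : X, ∃ V : Y.Opens, f x ∈ V ∧ Curv2.IsGloballyGenerated (G.restrict (f ⁻¹ᵁ V).ι)) :
    Epi ((Scheme.Modules.pullbackPushforwardAdjunction f).counit.app G) := by
  let adj := Scheme.Modules.pullbackPushforwardAdjunction f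
  refine Preadditive.epi_of_cancel_zero _ fun {Q} π hπ => ?_
  have hπ' : (Scheme.Modules.pushforward f).map π = 0 := by
    have h0 := congrArg (adj.homEquiv _ _) hπ
    rw [Adjunction.homEquiv_unit, Adjunction.homEquiv_unit, Functor.map_comp,
      Adjunction.right_triangle_components_assoc] at h0
    rw [h0]
    have h1 : (Scheme.Modules.pushforward f).map
        (0 : (Scheme.Modules.pullback f).obj ((Scheme.Modules.pushforward f).obj G) ⟶ Q) = 0 := by
      refine Scheme.Modules.hom_ext _ _ fun V'' => ?_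
      rfl
    rw [h1]
    exact Limits.comp_zero
  have key : ∀ (V : Y.Opens) (a : Γ(G, f ⁻¹ᵁ V)), π.app (f ⁻¹ᵁ V) a = 0 := fun V a => by
    show ((Scheme.Modules.pushforward f).map π).app V a = 0
    rw [hπ']; rfl
  refine Scheme.Modules.hom_ext _ _ fun U => ?_
  ext s
  show π.app U s = 0
  refine AModX.eq_of_locally _ _ fun x hxU => ?_
  obtain ⟨V, hxV, σ, p, hp⟩ := h x
  let W := f ⁻¹ᵁ V
  let R := Scheme.Modules.restrictFunctor W.ι
  have hzero : R.map π = 0 := by
    rw [← cancel_epi p, Limits.comp_zero]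
    refine Limits.Sigma.hom_ext _ _ fun k => ?_
    rw [Limits.comp_zero]
    refine eq_zero_of_one_eq_zero _ ?_
    show π.app (W.ι ''ᵁ ⊤) (InvX.one (SheafOfModules.ιFree k ≫ p)) = 0
    let a := AModX.res G W.ι_image_top.ge (InvX.one (SheafOfModules.ιFree k ≫ p))
    have e : InvX.one (SheafOfModules.ιFree k ≫ p) = AModX.res G W.ι_image_top.le a := by
      rw [AModX.res_res, AModX.res_self]
    rw [e]
    refine (QCoh.map_app_comm π (homOfLE W.ι_image_top.le) a).trans ?_
    rw [key V a, map_zero]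
  obtain ⟨O, hO, hxO⟩ : ∃ O : X.Opens, W.ι ''ᵁ (W.ι ⁻¹ᵁ U) = O ∧ x ∈ O :=
    ⟨_, rfl, ⟨x, hxV⟩, hxU, rfl⟩
  subst hO
  refine ⟨_, W.ι.image_preimage_le U, hxO, ?_⟩
  rw [map_zero]
  refine (QCoh.map_app_comm π (homOfLE (W.ι.image_preimage_le U)) s).symm.trans ?_
  show (R.map π).app (W.ι ⁻¹ᵁ U) _ = 0
  rw [hzero]
  rfl

/-- The counit is epimorphic on globally generated modules. -/
theorem epi_counit_of_isGloballyGenerated (f : X ⟶ Y) (G : X.Modules) (h : Curv2.IsGloballyGenerated G) :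
    Epi ((Scheme.Modules.pullbackPushforwardAdjunction f).counit.app G) := by
  let adj := Scheme.Modules.pullbackPushforwardAdjunction f
  refine Preadditive.epi_of_cancel_zero _ fun {Q} π hπ => ?_
  have hπ' : (Scheme.Modules.pushforward f).map π = 0 := by
    have h0 := congrArg (adj.homEquiv _ _) hπ
    rw [Adjunction.homEquiv_unit, Adjunction.homEquiv_unit, Functor.map_comp,
      Adjunction.right_triangle_components_assoc] at h0
    rw [h0]
    have h1 : (Scheme.Modules.pushforward f).map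
        (0 : (Scheme.Modules.pullback f).obj ((Scheme.Modules.pushforward f).obj G) ⟶ Q) = 0 := by
      refine Scheme.Modules.hom_ext _ _ fun V'' => ?_
      rfl
    rw [h1]
    exact Limits.comp_zero
  obtain ⟨σ, p, hp⟩ := h
  rw [← cancel_epi p, Limits.comp_zero]
  refine Limits.Sigma.hom_ext _ _ fun k => ?_
  rw [Limits.comp_zero]
  refine eq_zero_of_one_eq_zero _ ?_
  show π.app ⊤ (InvX.one (SheafOfModules.ιFree k ≫ p)) = 0
  generalize InvX.one (SheafOfModules.ιFree k ≫ p) = a
  show ((Scheme.Modules.pushforward f).map π).app ⊤ a = 0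
  rw [hπ']
  rfl

/-- Sections generating pointwise make the counit epimorphic. -/
theorem epi_counit_of_sections (f : X ⟶ Y) (_hM : PicF.IsInvertible M)
    (h : ∀ x : X, ∃ (V : Y.Opens) (a : Γ(M, f ⁻¹ᵁ V)), x ∈ locus a) :
    Epi ((Scheme.Modules.pullbackPushforwardAdjunction f).counit.app M) := by
  let adj := Scheme.Modules.pullbackPushforwardAdjunction f
  refine Preadditive.epi_of_cancel_zero _ fun {Q} π hπ => ?_
  have hπ' : (Scheme.Modules.pushforward f).map π = 0 := by
    have h0 := congrArg (adj.homEquiv _ _) hπ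
    rw [Adjunction.homEquiv_unit, Adjunction.homEquiv_unit, Functor.map_comp,
      Adjunction.right_triangle_components_assoc] at h0
    rw [h0]
    have h1 : (Scheme.Modules.pushforward f).map
        (0 : (Scheme.Modules.pullback f).obj ((Scheme.Modules.pushforward f).obj M) ⟶ Q) = 0 := by
      refine Scheme.Modules.hom_ext _ _ fun V'' => ?_
      rfl
    rw [h1]
    exact Limits.comp_zero
  refine Scheme.Modules.hom_ext _ _ fun U => ?_
  ext s
  show π.app U s = 0
  refine AModX.eq_of_locally _ _ fun x hxU => ?_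
  obtain ⟨V, a, hxa⟩ := h x
  have h1 : π.app (f ⁻¹ᵁ V) a = 0 := by
    show ((Scheme.Modules.pushforward f).map π).app V a = 0
    rw [hπ']; rfl
  let W := U ⊓ locus a
  have hf := isFrame_res_of_le a (inf_le_right : W ≤ locus a)
  obtain ⟨c, hc⟩ := hf.exists_coord le_rfl (AModX.res M (inf_le_left : W ≤ U) s)
  rw [AModX.res_self] at hc
  refine ⟨W, inf_le_left, ⟨hxU, hxa⟩, ?_⟩
  rw [map_zero]
  refine (QCoh.map_app_comm π (homOfLE (inf_le_left : W ≤ U)) s).symm.trans ?_
  refine (congrArg (π.app W) hc).trans ?_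
  refine (Scheme.Modules.Hom.app_smul π c _).trans ?_
  have h2 : π.app W (AModX.res M ((inf_le_right : W ≤ locus a).trans (locus_le a)) a) = 0 :=
    (QCoh.map_app_comm π (homOfLE ((inf_le_right : W ≤ locus a).trans (locus_le a))) a).trans
      ((congrArg _ h1).trans (map_zero _))
  exact (congrArg (c • ·) h2).trans (smul_zero c)

/-- The counit of a quasi-affine morphism is epimorphic on quasi-coherent modules. -/
theorem epi_counit_of_isQuasiAffine (f : X ⟶ Y) (hf : Mor2.IsQuasiAffine f) {F : X.Modules}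
    (hF : Coh.IsQCoh F) : Epi ((Scheme.Modules.pullbackPushforwardAdjunction f).counit.app F) := by
  refine epi_counit_of_generated f F fun x => ?_
  obtain ⟨_, ⟨V, hV, rfl⟩, hxV, -⟩ :=
    Y.isBasis_affineOpens.exists_subset_of_mem_open (Set.mem_univ (f x)) isOpen_univ
  haveI := hf.2 V hV
  exact ⟨V, hxV, isGloballyGenerated_of_isQuasiAffine (QCoh.isQCoh_restrict _ hF)⟩

/-- An epimorphic counit gives local sections with image not vanishing at a given point. -/
theorem exists_section_of_epi_counit (f : X ⟶ Y) (hM : PicF.IsInvertible M) (ψ : N ⟶ M)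
    (hepi : Epi ((Scheme.Modules.pullbackPushforwardAdjunction f).counit.app N)) (x : X)
    {O : X.Opens} (e : Γ(N, O)) (he : x ∈ locus (ψ.app O e)) {V : Y.Opens} (hV : f x ∈ V) :
    ∃ (V' : Y.Opens) (_ : V' ≤ V) (_ : f x ∈ V') (a : Γ(N, f ⁻¹ᵁ V')),
      x ∈ locus (ψ.app (f ⁻¹ᵁ V') a) := by
  by_contra hcon
  push Not at hcon
  let j := X.fromSpecResidueField x
  let adj := Scheme.Modules.pullbackPushforwardAdjunction j
  let φ : M ⟶ (Scheme.Modules.pushforward j).obj ((Scheme.Modules.pullback j).obj M) := adj.unit.app M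
  have hj : ∀ z, j z = x := fun z => by
    have hz : j z ∈ Set.range j := ⟨z, rfl⟩
    rwa [Scheme.range_fromSpecResidueField] at hz
  have hiM := PicClLib.isInvertible_pullback j hM
  have hφ : (Scheme.Modules.pushforward f).map (ψ ≫ φ) = 0 := by
    refine Scheme.Modules.hom_ext _ _ fun V'' => ?_
    ext a
    show (InvX.pullElt j (show Γ(M, f ⁻¹ᵁ V'') from ψ.app (f ⁻¹ᵁ V'') a) :
      Γ((Scheme.Modules.pullback j).obj M, j ⁻¹ᵁ (f ⁻¹ᵁ V''))) = 0
    refine eq_zero_of_locus_eq_bot hiM _ ?_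
    rw [locus_pullElt hM, eq_bot_iff]
    intro z hz
    have hz' : x ∈ locus (show Γ(M, f ⁻¹ᵁ V'') from ψ.app (f ⁻¹ᵁ V'') a) := hj z ▸ hz
    have hxV'' : x ∈ f ⁻¹ᵁ V'' := locus_le (show Γ(M, f ⁻¹ᵁ V'') from ψ.app (f ⁻¹ᵁ V'') a) hz'
    refine absurd ?_ (hcon (V'' ⊓ V) inf_le_right ⟨hxV'', hV⟩
      (AModX.res N (f.preimage_mono inf_le_left) a))
    rw [show ψ.app _ (AModX.res N (f.preimage_mono (inf_le_left : V'' ⊓ V ≤ V'')) a) =
      AModX.res M (f.preimage_mono inf_le_left) (ψ.app _ a) from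
      QCoh.map_app_comm ψ (homOfLE (f.preimage_mono inf_le_left)) a, locus_res]
    exact ⟨hz', ⟨hxV'', hV⟩⟩
  have hzero : (Scheme.Modules.pullbackPushforwardAdjunction f).counit.app N ≫ (ψ ≫ φ) = 0 := by
    refine ((Scheme.Modules.pullbackPushforwardAdjunction f).homEquiv _ _).injective ?_
    rw [Adjunction.homEquiv_unit, Adjunction.homEquiv_unit, Functor.map_comp,
      Adjunction.right_triangle_components_assoc, hφ]
    have h0 : (Scheme.Modules.pushforward f).map
        (0 : (Scheme.Modules.pullback f).obj ((Scheme.Modules.pushforward f).obj N) ⟶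
          (Scheme.Modules.pushforward j).obj ((Scheme.Modules.pullback j).obj M)) = 0 := by
      refine Scheme.Modules.hom_ext _ _ fun V'' => ?_
      rfl
    rw [h0]
    exact (Limits.comp_zero).symm
  have hφ0 : ψ ≫ φ = 0 := by
    rw [← cancel_epi ((Scheme.Modules.pullbackPushforwardAdjunction f).counit.app N), hzero, Limits.comp_zero]
  have h0 : InvX.pullElt j (ψ.app O e) = 0 := by
    show (ψ ≫ φ).app O e = 0
    rw [hφ0]; rfl
  obtain ⟨z⟩ : Nonempty (Spec (X.residueField x)) := inferInstance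
  have h1 : z ∈ locus (InvX.pullElt j (ψ.app O e)) := by
    rw [locus_pullElt hM]
    show j z ∈ locus (ψ.app O e)
    rw [hj]; exact he
  rw [h0, show (0 : Γ((Scheme.Modules.pullback j).obj M, j ⁻¹ᵁ O)) =
    (0 : Γ(Spec (X.residueField x), j ⁻¹ᵁ O)) • (0 : Γ((Scheme.Modules.pullback j).obj M, j ⁻¹ᵁ O))
    from (smul_zero _).symm, locus_smul hiM, Scheme.basicOpen_zero, inf_bot_eq] at h1
  exact h1

/-- The presheaf map `a ⊗ b ↦ i(a) b`. -/
noncomputable def idealTwistPre {J : X.Modules} (i : J ⟶ Coh.structureModule X) (L : X.Modules) :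
    CohB1.toPMod J ⊗ CohB1.toPMod L ⟶ DCoh.toP.obj L :=
  (DCoh.toP.map i ▷ CohB1.toPMod L) ≫ (λ_ (CohB1.toPMod L)).hom

/-- Multiplication `J ⊗ L ⟶ L` by an ideal. -/
noncomputable def idealTwist {J : X.Modules} (i : J ⟶ Coh.structureModule X) (L : X.Modules) :
    CohB1.tensorMod J L ⟶ L :=
  DCoh.shP.map (idealTwistPre i L) ≫ (KFlatLib.counitShP X).app L

theorem idealTwist_unit {J : X.Modules} (i : J ⟶ Coh.structureModule X) (L : X.Modules) :
    KFlatLib.unitShP (CohB1.toPMod J ⊗ CohB1.toPMod L) ≫ DCoh.toP.map (idealTwist i L) =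
      idealTwistPre i L := by
  have h := (PresheafOfModules.sheafificationAdjunction (𝟙 X.ringCatSheaf.obj)).homEquiv_unit
    (f := idealTwist i L)
  refine h.symm.trans ?_
  show (PresheafOfModules.sheafificationAdjunction (𝟙 X.ringCatSheaf.obj)).homEquiv _ _
    (DCoh.shP.map (idealTwistPre i L) ≫
      (PresheafOfModules.sheafificationAdjunction (𝟙 X.ringCatSheaf.obj)).counit.app L) = _
  exact (congrArg _ ((PresheafOfModules.sheafificationAdjunction (𝟙 X.ringCatSheaf.obj)).homEquiv_counit _ _ _).symm).trans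
    (Equiv.apply_symm_apply _ _)

theorem idealTwist_tmul {J : X.Modules} (i : J ⟶ Coh.structureModule X) (L : X.Modules) {U : X.Opens}
    (a : Γ(J, U)) (b : Γ(L, U)) :
    (idealTwist i L).app U (InvX.tmul a b) = (show Γ(X, U) from i.app U a) • b :=
  congr(($(idealTwist_unit i L)).app (op U) (KFlatLib.tm a b))

/-- The multiplication kills values where the ideal vanishes. -/
theorem notMem_locus_idealTwist {J : X.Modules} (i : J ⟶ Coh.structureModule X)
    (hL : PicF.IsInvertible L) {z : X}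
    (hi : ∀ (O : X.Opens) (a : Γ(J, O)), z ∉ X.basicOpen (show Γ(X, O) from i.app O a))
    {U : X.Opens} (t : Γ(CohB1.tensorMod J L, U)) : z ∉ locus ((idealTwist i L).app U t) := by
  intro hz
  let j := X.fromSpecResidueField z
  let φ : L ⟶ (Scheme.Modules.pushforward j).obj ((Scheme.Modules.pullback j).obj L) :=
    (Scheme.Modules.pullbackPushforwardAdjunction j).unit.app L
  have hj : ∀ w, j w = z := fun w => by
    have hw : j w ∈ Set.range j := ⟨w, rfl⟩
    rwa [Scheme.range_fromSpecResidueField] at hw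
  have hiL := PicClLib.isInvertible_pullback j hL
  have hzero : idealTwist i L ≫ φ = 0 := by
    refine ((PresheafOfModules.sheafificationAdjunction (𝟙 X.ringCatSheaf.obj)).homEquiv _ _).injective ?_
    rw [Adjunction.homEquiv_unit, Adjunction.homEquiv_unit, Functor.map_zero, Limits.comp_zero]
    refine PresheafOfModules.hom_ext fun O => ?_
    ext t'
    induction t' using KFlatLib.tm_induction with
    | h0 => exact (map_zero _).trans (map_zero _).symm
    | hadd a b ha hb => exact (map_add _ _ _).trans ((congrArg₂ (· + ·) ha hb).trans (map_add _ _ _).symm)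
    | htm a b =>
      show InvX.pullElt j ((idealTwist i L).app O.unop (InvX.tmul a b)) = 0
      rw [idealTwist_tmul]
      refine eq_zero_of_locus_eq_bot hiL _ ?_
      rw [locus_pullElt hL, eq_bot_iff]
      intro w hw
      have hw' : j w ∈ locus ((show Γ(X, O.unop) from i.app O.unop a) • b) := hw
      rw [hj, locus_smul hL] at hw'
      exact hi _ a hw'.2
  have h0 : InvX.pullElt j ((idealTwist i L).app U t) = 0 := by
    show (idealTwist i L ≫ φ).app U t = 0
    rw [hzero]; rfl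
  obtain ⟨w⟩ : Nonempty (Spec (X.residueField z)) := inferInstance
  have h1 : w ∈ locus (InvX.pullElt j ((idealTwist i L).app U t)) := by
    rw [locus_pullElt hL]
    show j w ∈ locus ((idealTwist i L).app U t)
    rw [hj]; exact hz
  rw [h0, show (0 : Γ((Scheme.Modules.pullback j).obj L, j ⁻¹ᵁ U)) =
    (0 : Γ(Spec (X.residueField z), j ⁻¹ᵁ U)) • (0 : Γ((Scheme.Modules.pullback j).obj L, j ⁻¹ᵁ U))
    from (smul_zero _).symm, locus_smul hiL, Scheme.basicOpen_zero, inf_bot_eq] at h1
  exact h1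

/-- A finite type ideal vanishing outside an affine open and trivial on it. -/
theorem exists_ft_ideal [CompactSpace X] [QuasiSeparatedSpace X] {U : X.Opens} (hU : IsAffineOpen U) :
    ∃ (J : X.Modules) (i : J ⟶ Coh.structureModule X), Mono i ∧ Coh.IsQCoh J ∧ CohB1.IsFT J ∧
      (∀ z, z ∉ U → ∀ (O : X.Opens) (a : Γ(J, O)), z ∉ X.basicOpen (show Γ(X, O) from i.app O a)) ∧
      ∃ e : Γ(J, U), (show Γ(X, U) from i.app U e) = 1 := by
  let Z : Set X := (U : Set X)ᶜ
  let G := (QCoh.vanIdeal Z).toModules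
  have hG : Coh.IsQCoh G := QCoh.isQCoh_vanIdeal Z
  let N₀ : QCoh.SubMod G :=
    { mem := fun _ => ⊤, map_mem := fun _ _ _ => trivial, of_locally := fun _ _ _ => trivial }
  have h1mem : (show Γ(Coh.structureModule X, U) from (1 : Γ(X, U))) ∈ (QCoh.vanIdeal Z).mem U :=
    fun z hz hzb => hz (X.basicOpen_le _ hzb)
  obtain ⟨e, he⟩ := (QCoh.vanIdeal Z).exists_app_eq h1mem
  have h₀ : QCoh.FTOn N₀ U := fun y hy =>
    ⟨U, hU, hy, le_rfl, {e}, Set.finite_singleton e, fun _ _ => trivial, fun O hO s _ z hz =>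
      ⟨O, le_rfl, hz, by
        rw [Set.image_singleton, Submodule.mem_span_singleton, QCoh.rs_self]
        refine ⟨QCoh.toFn ((QCoh.vanIdeal Z).ι.app O s), (QCoh.vanIdeal Z).ι_app_injective O ?_⟩
        rw [Scheme.Modules.Hom.app_smul, QCoh.rs, QCoh.map_app_comm, he]
        show QCoh.toFn ((QCoh.vanIdeal Z).ι.app O s) * X.presheaf.map (homOfLE hO).op 1 = _
        rw [map_one, mul_one]⟩⟩
  obtain ⟨N, hN, hag⟩ : ∃ N : QCoh.SubMod G, QCoh.FTOn N ⊤ ∧ ∀ O, O ≤ U → N.mem O = N₀.mem O := by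
    classical
    choose V hV hzV _ using fun z : X => exists_isAffineOpen_mem_and_subset (x := z) (U := ⊤) trivial
    have hind : ∀ S : Finset X, ∃ (W : X.Opens) (N : QCoh.SubMod G), IsCompact (W : Set X) ∧ U ≤ W ∧
        (∀ z ∈ S, V z ≤ W) ∧ QCoh.FTOn N W ∧ ∀ O, O ≤ U → N.mem O = N₀.mem O := by
      intro S
      induction S using Finset.induction with
      | empty => exact ⟨U, N₀, hU.isCompact, le_rfl, by simp, h₀, fun _ _ => rfl⟩
      | insert z S hz ih =>
        obtain ⟨W, N, hWc, hUW, hS, hN, hag⟩ := ih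
        have hK : IsCompact ((V z ⊓ W : X.Opens) : Set X) :=
          QuasiSeparatedSpace.inter_isCompact _ _ (V z).2 (hV z).isCompact W.2 hWc
        obtain ⟨N', hN', hft'⟩ := QCoh.exists_ft_step hG hN (hV z) hK
        refine ⟨W ⊔ V z, N', hWc.union (hV z).isCompact, hUW.trans le_sup_left, ?_, hft',
          fun O hO => (hN' O (hO.trans hUW)).trans (hag O hO)⟩
        intro y hy
        rcases Finset.mem_insert.1 hy with rfl | hy
        · exact le_sup_right
        · exact (hS y hy).trans le_sup_left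
    obtain ⟨S, hS⟩ := isCompact_univ.elim_finite_subcover (fun z : X => (V z : Set X)) (fun z => (V z).2)
      (fun z _ => Set.mem_iUnion.2 ⟨z, hzV z⟩)
    obtain ⟨W, N, -, -, hle, hN, hag⟩ := hind S
    obtain rfl : W = ⊤ := top_unique fun y _ => by
      obtain ⟨z, hz, hyz⟩ := Set.mem_iUnion₂.1 (hS (Set.mem_univ y))
      exact hle z hz hyz
    exact ⟨N, hN, hag⟩
  refine ⟨N.toModules, N.ι ≫ (QCoh.vanIdeal Z).ι, inferInstance, QCoh.isQCoh_of_ftOn hG hN,
    QCoh.isFT_of_ftOn hG hN, fun z hz O a => (QCoh.vanIdeal Z).ι_app_mem O (N.ι.app O a) z hz, ?_⟩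
  obtain ⟨e', he'⟩ := N.exists_app_eq (s := e) (U := U) (by rw [hag U le_rfl]; trivial)
  refine ⟨e', ?_⟩
  show (QCoh.vanIdeal Z).ι.app U (N.ι.app U e') = _
  rw [he', he]

/-- An affine open inside the preimage gives local sections of `L^m` with affine loci. -/
theorem exists_affine_locus_of_epi (f : X ⟶ Y) {J : X.Modules} (i : J ⟶ Coh.structureModule X)
    (hL : PicF.IsInvertible L) {U : X.Opens} (hU : IsAffineOpen U) {x : X} (hxU : x ∈ U)
    (hi : ∀ z, z ∉ U → ∀ (O : X.Opens) (a : Γ(J, O)), z ∉ X.basicOpen (show Γ(X, O) from i.app O a))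
    (e : Γ(J, U)) (he : (show Γ(X, U) from i.app U e) = 1)
    (hepi : Epi ((Scheme.Modules.pullbackPushforwardAdjunction f).counit.app (CohB1.tensorMod J L)))
    {V : Y.Opens} (hV : IsAffineOpen V) (hxV : f x ∈ V) (hUV : U ≤ f ⁻¹ᵁ V) :
    ∃ (r : Γ(Y, V)) (a : Γ(L, f ⁻¹ᵁ Y.basicOpen r)), x ∈ locus a ∧ IsAffineOpen (locus a) := by
  obtain ⟨O, hxO, b, hb⟩ := InvX.exists_frame hL x
  let O' := O ⊓ U
  have hex : x ∈ locus ((idealTwist i L).app O'
      (InvX.tmul (AModX.res J (inf_le_right : O' ≤ U) e) (AModX.res L (inf_le_left : O' ≤ O) b))) := by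
    rw [idealTwist_tmul, show i.app O' (AModX.res J (inf_le_right : O' ≤ U) e) =
      AModX.res (Coh.structureModule X) inf_le_right (i.app U e) from
        QCoh.map_app_comm i (homOfLE inf_le_right) e]
    have h1 : (show Γ(X, O') from
        AModX.res (Coh.structureModule X) (inf_le_right : O' ≤ U) (i.app U e)) = 1 := by
      show AModX.resR (inf_le_right : O' ≤ U) (show Γ(X, U) from i.app U e) = 1
      rw [he, map_one]
    rw [h1, one_smul]
    refine le_locus _ le_rfl ?_ ⟨hxO, hxU⟩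
    rw [AModX.res_self]; exact hb.res _
  obtain ⟨V', -, hxV', a, ha⟩ := exists_section_of_epi_counit f hL _ hepi x _ hex hxV
  obtain ⟨r, hr, hxr⟩ := hV.exists_basicOpen_le (V := V') ⟨f x, hxV'⟩ hxV
  let c := AModX.res L (f.preimage_mono hr) ((idealTwist i L).app _ a)
  have hcl : locus c = locus ((idealTwist i L).app _ a) ⊓ f ⁻¹ᵁ Y.basicOpen r := locus_res _ _
  refine ⟨r, c, hcl ▸ ⟨ha, hxr⟩, ?_⟩
  have hle : locus c ≤ U := fun z hz => by
    by_contra hzU
    exact notMem_locus_idealTwist i hL (hi z hzU) a (hcl.le hz).1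
  let W := U ⊓ f ⁻¹ᵁ Y.basicOpen r
  have hW : IsAffineOpen W := by
    show IsAffineOpen (U ⊓ f ⁻¹ᵁ Y.basicOpen r)
    rw [← Scheme.basicOpen_appLE f U V hUV r]
    exact hU.basicOpen _
  have := isAffineOpen_inf_locus hL hW c (inf_le_right : W ≤ f ⁻¹ᵁ Y.basicOpen r)
  rwa [inf_eq_right.2 (le_inf hle (locus_le c))] at this

/-- Enough epimorphic twisted ideal counits force relative ampleness. -/
theorem isRelAmple_of_epi_counit_ideals [CompactSpace X] [QuasiSeparatedSpace X] (f : X ⟶ Y)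
    [QuasiCompact f] [QuasiSeparated f] (hL : PicF.IsInvertible L)
    (h : ∀ (J : X.Modules) (i : J ⟶ Coh.structureModule X), Mono i → Coh.IsQCoh J → CohB1.IsFT J →
      ∃ n : ℕ, 0 < n ∧ Epi ((Scheme.Modules.pullbackPushforwardAdjunction f).counit.app
        (CohB1.tensorMod J (CohB1.tensorPow L n)))) :
    RelAmple.IsRelAmple f L := by
  refine ⟨inferInstance, fun V => isAmple_preimage_of_local hL V.2 fun x hx => ?_⟩
  obtain ⟨U, hU, hxU, hUV⟩ := exists_isAffineOpen_mem_and_subset (x := x) (U := f ⁻¹ᵁ V.1) hx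
  obtain ⟨J, i, hm, hq, hft, hi, e, he⟩ := exists_ft_ideal hU
  obtain ⟨n, hn, hepi⟩ := h J i hm hq hft
  obtain ⟨r, a, ha⟩ := exists_affine_locus_of_epi f i (InvX.isInvertible_tensorPow hL n) hU hxU hi e he
    hepi V.2 hx hUV
  exact ⟨r, n, hn, a, ha⟩

/-- Restrictions to opens preserve finite type. -/
theorem isFT_restrict' {Z : Scheme.{u}} (f : Z ⟶ X) [IsOpenImmersion f] {M : X.Modules} (hM : Coh.IsQCoh M) (hft : CohB1.IsFT M) :
    CohB1.IsFT (M.restrict f) := by
  rw [QCoh.isFT_iff (QCoh.isQCoh_restrict f hM)]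
  intro V
  obtain ⟨s, hs⟩ := (QCoh.finite_of_isFT hM hft (V.2.image_of_isOpenImmersion f)).fg_top
  let T : Set Γ(M.restrict f, V.1) := (s : Set Γ(M, f ''ᵁ V.1))
  refine ⟨⟨s, ?_⟩⟩
  show Submodule.span Γ(Z, V.1) T = ⊤
  rw [eq_top_iff]
  rintro x -
  suffices key : ∀ z : Γ(M, f ''ᵁ V.1), (show Γ(M.restrict f, V.1) from z) ∈
      Submodule.span Γ(Z, V.1) T from key x
  intro z
  have hx : z ∈ Submodule.span Γ(X, f ''ᵁ V.1) (s : Set Γ(M, f ''ᵁ V.1)) := by rw [hs]; trivial
  induction hx using Submodule.span_induction with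
  | mem y hy => exact Submodule.subset_span hy
  | zero => exact Submodule.zero_mem _
  | add y z _ _ hy hz => exact Submodule.add_mem _ hy hz
  | smul r y _ hy =>
    have := Submodule.smul_mem (Submodule.span Γ(Z, V.1) T)
      ((f.appIso V.1).hom r) hy
    convert this using 1
    show r • y = (f.appIso V.1).inv ((f.appIso V.1).hom r) • y
    rw [← ConcreteCategory.comp_apply, Iso.hom_inv_id]
    rfl

/-- For a relatively ample module the counit is eventually epimorphic on twists. -/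
theorem eventually_epi_counit [CompactSpace X] [X.IsSeparated] (f : X ⟶ Y)
    (hL : RelAmple.IsRelAmple f L) {F : X.Modules} (hq : Coh.IsQCoh F) (hft : CohB1.IsFT F) :
    ∃ n₀ : ℕ, 0 < n₀ ∧ ∀ n, n₀ ≤ n →
      Epi ((Scheme.Modules.pullbackPushforwardAdjunction f).counit.app
        (CohB1.tensorMod F (CohB1.tensorPow L n))) := by
  classical
  haveI := hL.1
  choose V hV hxV _ using fun x : X => exists_isAffineOpen_mem_and_subset (x := f x) (U := ⊤) trivial
  obtain ⟨S, hS⟩ := isCompact_univ.elim_finite_subcover (fun x => ((f ⁻¹ᵁ V x : X.Opens) : Set X))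
    (fun x => (f ⁻¹ᵁ V x).2) (fun x _ => Set.mem_iUnion.2 ⟨x, hxV x⟩)
  have hev : ∀ x : X, ∃ n₀ : ℕ, ∀ n, n₀ ≤ n →
      Curv2.IsGloballyGenerated ((CohB1.tensorMod F (CohB1.tensorPow L n)).restrict (f ⁻¹ᵁ V x).ι) := by
    intro x
    have ha := hL.2 ⟨V x, hV x⟩
    haveI : CompactSpace (f ⁻¹ᵁ V x : X.Opens).toScheme :=
      isCompact_iff_compactSpace.mp (f.isCompact_preimage (hV x).isCompact)
    haveI : (f ⁻¹ᵁ V x : X.Opens).toScheme.IsSeparated := isSeparated_of_isAmple ha
    obtain ⟨n₀, h⟩ := eventually_isGloballyGenerated ha (F := F.restrict (f ⁻¹ᵁ V x).ι)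
      (QCoh.isQCoh_restrict _ hq) (isFT_restrict' _ hq hft)
    refine ⟨n₀, fun n hn => ?_⟩
    obtain ⟨e⟩ := cl_eq_iff.1 (show PicF.cl (CohB1.tensorMod (F.restrict (f ⁻¹ᵁ V x).ι)
        (CohB1.tensorPow (L.restrict (f ⁻¹ᵁ V x).ι) n)) =
      PicF.cl ((CohB1.tensorMod F (CohB1.tensorPow L n)).restrict (f ⁻¹ᵁ V x).ι) by
        rw [cl_tensor, cl_restrict, cl_tensorPow, cl_restrict, cl_restrict, cl_tensor, cl_tensorPow,
          pullCl_mul, pullCl_pow])
    exact isGloballyGenerated_of_iso e (h n hn)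
  choose N hN using hev
  refine ⟨S.sup N + 1, Nat.succ_pos _, fun n hn => epi_counit_of_generated f _ fun x => ?_⟩
  obtain ⟨y, hy, hxy⟩ := Set.mem_iUnion₂.1 (hS (Set.mem_univ x))
  exact ⟨V y, hxy, hN y n (le_trans ((Finset.le_sup hy).trans (Nat.le_succ _)) hn)⟩

/-- Epimorphic counits on quasi-coherent modules force quasi-affineness. -/
theorem isQuasiAffine_of_epi_counit (f : X ⟶ Y) [QuasiCompact f] [QuasiSeparated f]
    (h : ∀ F : X.Modules, Coh.IsQCoh F →
      Epi ((Scheme.Modules.pullbackPushforwardAdjunction f).counit.app F)) :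
    Mor2.IsQuasiAffine f := by
  refine (isQuasiAffine_iff_isRelAmple f).2 ⟨inferInstance, fun V =>
    isAmple_preimage_of_local InvX.isInvertible_structureModule V.2 fun x hx => ?_⟩
  obtain ⟨U, hU, hxU, hUV⟩ := exists_isAffineOpen_mem_and_subset (x := x) (U := f ⁻¹ᵁ V.1) hx
  let Z : Set X := (U : Set X)ᶜ
  have h1mem : (show Γ(Coh.structureModule X, U) from (1 : Γ(X, U))) ∈ (QCoh.vanIdeal Z).mem U :=
    fun z hz hzb => hz (X.basicOpen_le _ hzb)
  obtain ⟨e, he⟩ := (QCoh.vanIdeal Z).exists_app_eq h1mem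
  have hP := InvX.isInvertible_tensorPow (InvX.isInvertible_structureModule (X := X)) 1
  obtain ⟨r, a, ha⟩ := exists_affine_locus_of_epi f (QCoh.vanIdeal Z).ι hP hU hxU
    (fun z hz O a => (QCoh.vanIdeal Z).ι_app_mem O a z hz) e he
    (h _ (KFlatLib.isQCoh_tensor (QCoh.isQCoh_vanIdeal Z) (ProjUPX.isQCoh_of_isInvertible hP))) V.2 hx hUV
  exact ⟨r, 1, one_pos, a, ha⟩

end Groth.Agent.AmpleX
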