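import Groth.Agent.AmpleX.Separated
import Groth.Agent.AmpleX.Basis

/-!
# Generating loci of sections over opens; ampleness on open subschemes
-/

universe u

open CategoryTheory AlgebraicGeometry TopologicalSpace
open Groth.Agent.H23.PicMul

set_option backward.isDefEq.respectTransparency false
set_option backward.isDefEq.respectTransparency.types false

namespace Groth.Agent.AmpleX

open Groth.Agent

variable {X Z : Scheme.{u}} {M L : X.Modules}

/-- Where a section over an open generates. -/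
noncomputable def locus {U : X.Opens} (a : Γ(M, U)) : X.Opens :=
  sSup {V : X.Opens | ∃ h : V ≤ U, InvX.IsFrame (AModX.res M h a)}

lemma locus_le {U : X.Opens} (a : Γ(M, U)) : locus a ≤ U := sSup_le fun _ h => h.1

lemma le_locus {U V : X.Opens} (a : Γ(M, U)) (h : V ≤ U) (hV : InvX.IsFrame (AModX.res M h a)) :
    V ≤ locus a := le_sSup ⟨h, hV⟩

lemma mem_locus {U : X.Opens} {a : Γ(M, U)} {x : X} :
    x ∈ locus a ↔ ∃ (V : X.Opens) (h : V ≤ U), x ∈ V ∧ InvX.IsFrame (AModX.res M h a) :=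
  ⟨fun hx => by
    obtain ⟨V, ⟨h, hV⟩, hxV⟩ := Opens.mem_sSup.1 hx
    exact ⟨V, h, hxV, hV⟩, fun ⟨_, h, hxV, hV⟩ => le_locus a h hV hxV⟩

lemma isFrame_res_locus {U : X.Opens} (a : Γ(M, U)) : InvX.IsFrame (AModX.res M (locus_le a) a) := by
  refine InvX.isFrame_of_germ fun y hy => ?_
  obtain ⟨V, h, hyV, hV⟩ := mem_locus.1 hy
  have := hV.germ_bijective hyV
  rw [InvX.germ_res'] at this ⊢
  exact this

lemma isFrame_res_of_le {U V : X.Opens} (a : Γ(M, U)) (h : V ≤ locus a) :
    InvX.IsFrame (AModX.res M (h.trans (locus_le a)) a) := by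
  rw [← AModX.res_res (locus_le a) h]
  exact (isFrame_res_locus a).res h

lemma locus_res {U V : X.Opens} (a : Γ(M, U)) (h : V ≤ U) : locus (AModX.res M h a) = locus a ⊓ V := by
  refine le_antisymm (sSup_le fun W ⟨hW, hf⟩ => le_inf (le_locus a (hW.trans h) ?_) hW) ?_
  · rw [AModX.res_res] at hf
    exact hf
  · refine le_locus _ inf_le_right ?_
    rw [AModX.res_res]
    exact isFrame_res_of_le a inf_le_left

lemma locus_inf {U V : X.Opens} (a : Γ(M, U)) (h : V ≤ U) {e : Γ(M, V)} (he : InvX.IsFrame e) {g : Γ(X, V)}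
    (hg : AModX.res M h a = g • e) : locus a ⊓ V = X.basicOpen g := by
  refine le_antisymm (fun x hx => ?_) (le_inf (le_locus a ((X.basicOpen_le g).trans h) ?_) (X.basicOpen_le g))
  · have hf := isFrame_res_of_le a (inf_le_left : locus a ⊓ V ≤ locus a)
    obtain ⟨c, hc⟩ := hf.exists_coord le_rfl (AModX.res M inf_le_right e)
    rw [AModX.res_self] at hc
    have hg' := congrArg (AModX.res M (inf_le_right : locus a ⊓ V ≤ V)) hg
    rw [AModX.res_res, AModX.res_smul] at hg'
    have hu : c * AModX.resR (inf_le_right : locus a ⊓ V ≤ V) g = 1 := by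
      refine he.coord_unique inf_le_right ?_
      rw [one_smul, mul_smul, ← hg']
      exact hc.symm
    have hmem : x ∈ X.basicOpen (AModX.resR (inf_le_right : locus a ⊓ V ≤ V) g) := by
      rw [X.basicOpen_of_isUnit (IsUnit.of_mul_eq_one_right c hu)]
      exact hx
    rw [show AModX.resR (inf_le_right : locus a ⊓ V ≤ V) g = X.presheaf.map (homOfLE inf_le_right).op g from rfl,
      Scheme.basicOpen_res] at hmem
    exact hmem.2
  · have h1 := congrArg (AModX.res M (X.basicOpen_le g)) hg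
    rw [AModX.res_res, AModX.res_smul] at h1
    rw [h1]
    exact (he.res _).isUnit_smul (AModX.isUnit_resR _ _ le_rfl)

lemma locus_smul (hM : PicF.IsInvertible M) {U : X.Opens} (r : Γ(X, U)) (a : Γ(M, U)) :
    locus (r • a) = locus a ⊓ X.basicOpen r := by
  refine Opens.ext (Set.ext fun x => ?_)
  show x ∈ locus (r • a) ↔ x ∈ locus a ⊓ X.basicOpen r
  by_cases hxU : x ∈ U
  swap
  · exact ⟨fun h => absurd (locus_le _ h) hxU, fun h => absurd (locus_le a h.1) hxU⟩
  obtain ⟨V₀, hxV₀, e₀, he₀⟩ := InvX.exists_frame hM x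
  let V := V₀ ⊓ U
  have he := he₀.res (inf_le_left : V ≤ V₀)
  have hxV : x ∈ V := ⟨hxV₀, hxU⟩
  obtain ⟨c, hc⟩ := he.exists_coord le_rfl (AModX.res M (inf_le_right : V ≤ U) a)
  rw [AModX.res_self] at hc
  have h1 : AModX.res M (inf_le_right : V ≤ U) (r • a) =
      (AModX.resR (inf_le_right : V ≤ U) r * c) • AModX.res M (inf_le_left : V ≤ V₀) e₀ := by
    rw [AModX.res_smul, hc, mul_smul]
  have h2 := congrArg (fun W : X.Opens => x ∈ W) (locus_inf _ _ he h1)
  have h3 := congrArg (fun W : X.Opens => x ∈ W) (locus_inf _ _ he hc)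
  rw [Scheme.basicOpen_mul, show AModX.resR (inf_le_right : V ≤ U) r = X.presheaf.map (homOfLE inf_le_right).op r from rfl,
    Scheme.basicOpen_res] at h2
  simp only [Opens.mem_inf, hxV₀, hxU, and_self, and_true, true_and, eq_iff_iff] at h2 h3
  rw [Opens.mem_inf]
  exact h2.trans (and_comm.trans (and_congr_left fun _ => h3.symm))

theorem genLocus_eq_locus (s : Coh.structureModule X ⟶ M) :
    CohB1.genLocus M s = locus (InvX.one s) := by
  refine le_antisymm (sSup_le fun V hV => le_locus _ le_top ((InvX.isIso_restrict_iff s V).1 hV))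
    (sSup_le fun V ⟨_, hV⟩ => InvX.le_genLocus s hV)

lemma isFrame_restrict_iff (j : Z ⟶ X) [IsOpenImmersion j] {V : Z.Opens} (a : Γ(M, j ''ᵁ V)) :
    InvX.IsFrame (M := M.restrict j) (U := V) a ↔ InvX.IsFrame (M := M) a := by
  have key : ∀ (V' : Z.Opens) (h : V' ≤ V),
      (fun r : Γ(Z, V') => r • AModX.res (M.restrict j) h (show Γ(M.restrict j, V) from a)) =
      (fun c : Γ(X, j ''ᵁ V') => (show Γ(M.restrict j, V') from c • AModX.res M (j.image_mono h) a)) ∘
        (j.appIso V').inv := fun V' h => funext fun r => rfl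
  have hiso : ∀ V', Function.Bijective (j.appIso V').inv := fun V' =>
    (ConcreteCategory.isIso_iff_bijective _).1 inferInstance
  constructor
  · intro h W hW
    obtain ⟨V', rfl⟩ : ∃ V', j ''ᵁ V' = W := ⟨j ⁻¹ᵁ W, by
      rw [Scheme.Hom.image_preimage_eq_opensRange_inf]
      exact inf_eq_right.2 (hW.trans (j.image_le_opensRange V))⟩
    have hle : V' ≤ V := (j.image_le_image_iff V' V).1 hW
    have h' := h V' hle
    rw [key V' hle, Function.Bijective.of_comp_iff _ (hiso V')] at h'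
    exact h'
  · intro h V' hV'
    rw [key V' hV', Function.Bijective.of_comp_iff _ (hiso V')]
    exact h _ (j.image_mono hV')

lemma image_locus (j : Z ⟶ X) [IsOpenImmersion j] {V : Z.Opens} (a : Γ(M, j ''ᵁ V)) :
    j ''ᵁ locus (M := M.restrict j) (U := V) a = locus (M := M) a := by
  refine le_antisymm (le_locus _ (j.image_mono (locus_le _)) ?_) (fun x hx => ?_)
  · exact (isFrame_restrict_iff j _).1 (isFrame_res_locus (M := M.restrict j) (U := V) a)
  · obtain ⟨W, hW, hxW, hf⟩ := mem_locus.1 hx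
    obtain ⟨V', rfl⟩ : ∃ V', j ''ᵁ V' = W := ⟨j ⁻¹ᵁ W, by
      rw [Scheme.Hom.image_preimage_eq_opensRange_inf]
      exact inf_eq_right.2 (hW.trans (j.image_le_opensRange V))⟩
    have hle : V' ≤ V := (j.image_le_image_iff V' V).1 hW
    exact j.image_mono (le_locus (M := M.restrict j) (U := V) a hle ((isFrame_restrict_iff j _).2 hf)) hxW

lemma isInvertible_restrict (j : Z ⟶ X) [IsOpenImmersion j] (hL : PicF.IsInvertible L) :
    PicF.IsInvertible (L.restrict j) :=
  isInvertible_of_iso ((Scheme.Modules.restrictFunctorIsoPullback j).app L).symm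
    (PicClLib.isInvertible_pullback j hL)

lemma cl_restrict (j : Z ⟶ X) [IsOpenImmersion j] (A : X.Modules) :
    PicF.cl (A.restrict j) = PicF.pullCl j (PicF.cl A) :=
  cl_eq_iff.2 ⟨(Scheme.Modules.restrictFunctorIsoPullback j).app A⟩

lemma nonempty_restrict_tensorPow (j : Z ⟶ X) [IsOpenImmersion j] (m : ℕ) :
    Nonempty ((CohB1.tensorPow L m).restrict j ≅ CohB1.tensorPow (L.restrict j) m) :=
  cl_eq_iff.1 (by rw [cl_tensorPow, cl_restrict, cl_restrict, cl_tensorPow, pullCl_pow])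

/-- From sections over the open to sections of the restriction. -/
theorem exists_section_restrict (j : Z ⟶ X) [IsOpenImmersion j] {m : ℕ}
    (a : Γ(CohB1.tensorPow L m, j ''ᵁ ⊤)) :
    ∃ s : Coh.structureModule Z ⟶ CohB1.tensorPow (L.restrict j) m,
      j ''ᵁ CohB1.genLocus _ s = locus a := by
  obtain ⟨e⟩ := nonempty_restrict_tensorPow (L := L) j m
  refine ⟨InvX.ofSect (M := (CohB1.tensorPow L m).restrict j) a ≫ e.hom, ?_⟩
  rw [InvX.genLocus_comp_iso, genLocus_eq_locus, InvX.one_ofSect, image_locus]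

/-- From sections of the restriction to sections over the open. -/
theorem exists_section_extendable (j : Z ⟶ X) [IsOpenImmersion j] {m : ℕ}
    (s : Coh.structureModule Z ⟶ CohB1.tensorPow (L.restrict j) m) :
    ∃ a : Γ(CohB1.tensorPow L m, j ''ᵁ ⊤), locus a = j ''ᵁ CohB1.genLocus _ s := by
  obtain ⟨e⟩ := nonempty_restrict_tensorPow (L := L) j m
  refine ⟨InvX.one (s ≫ e.inv), ?_⟩
  rw [← image_locus j (InvX.one (s ≫ e.inv)), ← genLocus_eq_locus,
    ← InvX.genLocus_comp_iso s e.symm]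
  rfl

/-- Ampleness on an open subscheme, by sections over the open. -/
theorem isAmple_restrict_iff (j : Z ⟶ X) [IsOpenImmersion j] (hL : PicF.IsInvertible L) :
    CohB1.IsAmple (L.restrict j) ↔ CompactSpace Z ∧ ∀ z : Z, ∃ (m : ℕ) (_ : 0 < m)
      (a : Γ(CohB1.tensorPow L m, j ''ᵁ ⊤)), j z ∈ locus a ∧ IsAffineOpen (locus a) := by
  constructor
  · intro h
    obtain ⟨-, hc, hx⟩ := isAmple_iff.1 h
    refine ⟨hc, fun z => ?_⟩
    obtain ⟨m, hm, s, hzs, hs⟩ := hx z
    obtain ⟨a, ha⟩ := exists_section_extendable j s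
    exact ⟨m, hm, a, ha.symm ▸ ⟨z, hzs, rfl⟩, ha.symm ▸ hs.image_of_isOpenImmersion j⟩
  · rintro ⟨hc, hx⟩
    refine isAmple_iff.2 ⟨isInvertible_restrict j hL, hc, fun z => ?_⟩
    obtain ⟨m, hm, a, hza, ha⟩ := hx z
    obtain ⟨s, hs⟩ := exists_section_restrict j a
    refine ⟨m, hm, s, ?_, ?_⟩
    · obtain ⟨z', hz', e⟩ := (hs.symm ▸ hza : j z ∈ j ''ᵁ CohB1.genLocus _ s)
      exact j.isOpenEmbedding.injective e ▸ hz'
    · rw [← j.isAffineOpen_iff_of_isOpenImmersion, hs]
      exact ha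

/-- Small affine loci over an open on which `L` is ample. -/
theorem exists_locus_le (j : Z ⟶ X) [IsOpenImmersion j] (h : CohB1.IsAmple (L.restrict j)) {x : X}
    (hx : x ∈ j ''ᵁ (⊤ : Z.Opens)) {U : X.Opens} (hxU : x ∈ U) :
    ∃ (m : ℕ) (_ : 0 < m) (a : Γ(CohB1.tensorPow L m, j ''ᵁ ⊤)),
      x ∈ locus a ∧ locus a ≤ U ∧ IsAffineOpen (locus a) := by
  obtain ⟨z, -, rfl⟩ := hx
  haveI := isSeparated_of_isAmple h
  obtain ⟨m, hm, s, hzs, hle, hs⟩ := exists_genLocus_le h (U := j ⁻¹ᵁ U) hxU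
  obtain ⟨a, ha⟩ := exists_section_extendable j s
  refine ⟨m, hm, a, ha.symm ▸ ⟨z, hzs, rfl⟩, ?_, ha.symm ▸ hs.image_of_isOpenImmersion j⟩
  rw [ha]
  exact (j.image_mono hle).trans (j.image_preimage_eq_opensRange_inf U ▸ inf_le_right)

end Groth.Agent.AmpleX
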