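import Groth.Agent.AmpleX.Generated
import Groth.Agent.AmpleX.Proj
import Groth.Agent.AmpleVan.Tw
import Groth.Agent.InvX.GenEpi
import Groth.Agent.PnCoh.Finite.TwistInv

/-!
# Large twists on `Proj` are quotients of free modules
-/

universe u

set_option backward.isDefEq.respectTransparency false
set_option backward.isDefEq.respectTransparency.types false
set_option linter.style.haveILetI false
set_option maxHeartbeats 800000

open CategoryTheory CategoryTheory.Limits AlgebraicGeometry TopologicalSpace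
open Groth.Agent.H23.PicMul

namespace Groth.Agent.AmpleX

open Groth.Agent

variable {R A : Type u} [CommRing R] [CommRing A] [Algebra R A] {𝒜 : ℕ → Submodule R A} [GradedAlgebra 𝒜]

/-- Large twists of a quasi-coherent module of finite type are quotients of finite free ones. -/
theorem eventually_epi_free_twistBy (s : Finset A) (hs1 : ∀ f ∈ s, f ∈ 𝒜 1)
    (hs : (HomogeneousIdeal.irrelevant 𝒜).toIdeal = Ideal.span (s : Set A))
    {F : (Proj 𝒜).Modules} (hF : Coh.IsQCoh F) (hFT : CohB1.IsFT F) :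
    ∃ n₀ : ℕ, ∀ n : ℕ, n₀ ≤ n →
      ∃ (k : ℕ) (p : FlatMod.freeMod (Proj 𝒜) k ⟶ Twist.twistBy 𝒜 F (n : ℤ)), Epi p := by
  have hcov : ⨆ f : s, Proj.basicOpen 𝒜 (f : A) = ⊤ :=
    Proj.iSup_basicOpen_eq_top 𝒜 (fun f : s => (f : A)) (by rw [hs, Subtype.range_coe_subtype]; rfl)
  have hamp := isAmple_twist_one 𝒜 s hs1 hcov
  haveI : CompactSpace (Proj 𝒜) := hamp.2.1
  obtain ⟨n₀, h⟩ := eventually_generated_finite hamp hF hFT
  refine ⟨n₀, fun n hn => ?_⟩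
  obtain ⟨G, iso, ι, _, t, ht⟩ := h n hn
  haveI := Fintype.ofFinite ι
  have ht' : ProjUP.GeneratedBy G (t ∘ (Fintype.equivFin ι).symm) := fun x => by
    rw [← ht x]
    refine congrArg (Submodule.span _) ?_
    exact (Fintype.equivFin ι).symm.surjective.range_comp (g := fun i => (G.presheaf.germ ⊤ x trivial).hom (t i))
  obtain ⟨p, hp⟩ := InvX.exists_epi_freeMod ht'
  obtain ⟨w⟩ := PnCoh.Finite.twist_tensorPow_iso (𝒜 := 𝒜) (fun f : s => (f : A)) (fun f => hs1 f f.2) hcov n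
  obtain ⟨e⟩ := cl_eq_iff.1 (show PicF.cl G = PicF.cl (Twist.twistBy 𝒜 F (n : ℤ)) by
    rw [cl_eq_iff.2 ⟨iso⟩]
    show _ = PicF.cl (CohB1.tensorMod F _)
    rw [cl_tensor, cl_tensor, cl_eq_iff.2 ⟨w⟩])
  exact ⟨_, p ≫ e.hom, epi_comp _ _⟩

/-- A quotient of finite sums of negative twists. -/
theorem eventually_epi_neg_twist (s : Finset A) (hs1 : ∀ f ∈ s, f ∈ 𝒜 1)
    (hs : (HomogeneousIdeal.irrelevant 𝒜).toIdeal = Ideal.span (s : Set A))
    {F : (Proj 𝒜).Modules} (hF : Coh.IsQCoh F) (hFT : CohB1.IsFT F) :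
    ∃ n₀ : ℕ, ∀ n : ℕ, n₀ ≤ n →
      ∃ (k : ℕ) (p : (∐ fun _ : Fin k => Twist.twist 𝒜 (-(n : ℤ))) ⟶ F), Epi p := by
  have hcov : ⨆ f : s, Proj.basicOpen 𝒜 (f : A) = ⊤ :=
    Proj.iSup_basicOpen_eq_top 𝒜 (fun f : s => (f : A)) (by rw [hs, Subtype.range_coe_subtype]; rfl)
  obtain ⟨n₀, h⟩ := eventually_epi_free_twistBy s hs1 hs hF hFT
  refine ⟨n₀, fun n hn => ?_⟩
  obtain ⟨k, p, hp⟩ := h n hn
  let N := Twist.twist 𝒜 (-(n : ℤ))
  have hinv : PicF.IsInvertible N :=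
    PnCoh.Finite.isInvertible_twist (fun f : s => (f : A)) (fun f => hs1 f f.2) hcov _
  obtain ⟨⟨w⟩⟩ : Nonempty (Nonempty (CohB1.tensorMod (Twist.twist 𝒜 (n : ℤ)) N ≅ Twist.twist 𝒜 ((n : ℤ) + -(n : ℤ)))) :=
    ⟨PnCoh.Finite.twist_tensor_iso (𝒜 := 𝒜) (fun f : s => (f : A)) (fun f => hs1 f f.2) hcov _ _⟩
  rw [add_neg_cancel] at w
  obtain ⟨u⟩ := PnCoh.Finite.twist_tensorPow_iso (𝒜 := 𝒜) (fun f : s => (f : A)) (fun f => hs1 f f.2) hcov 0
  obtain ⟨e⟩ := cl_eq_iff.1 (show PicF.cl ((AmpleVan.tw N).obj (Twist.twistBy 𝒜 F (n : ℤ))) = PicF.cl F by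
    show PicF.cl (CohB1.tensorMod (CohB1.tensorMod F (Twist.twist 𝒜 (n : ℤ))) N) = _
    rw [cl_tensor, cl_tensor, mul_assoc, ← cl_tensor, cl_eq_iff.2 ⟨w⟩, ← Nat.cast_zero, cl_eq_iff.2 ⟨u⟩, cl_tensorPow, pow_zero,
      mul_one])
  obtain ⟨e₁⟩ := cl_eq_iff.1 (show PicF.cl N = PicF.cl ((AmpleVan.tw N).obj (Coh.structureModule (Proj 𝒜))) by
    show _ = PicF.cl (CohB1.tensorMod _ N)
    rw [cl_tensor, show PicF.cl (Coh.structureModule (Proj 𝒜)) = 1 from rfl, one_mul])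
  haveI := AmpleVan.isEquivalence_tw hinv
  refine ⟨k, Limits.Sigma.map (fun _ => e₁.hom) ≫
    (PreservesCoproduct.iso (AmpleVan.tw N) fun _ : Fin k => Coh.structureModule (Proj 𝒜)).inv ≫
    (AmpleVan.tw N).map p ≫ e.hom, ?_⟩
  infer_instance

end Groth.Agent.AmpleX
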