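import Groth.Agent.AmpleX.Sect
import Mathlib.AlgebraicGeometry.ResidueField

/-!
# Tensoring a relatively ample module with a relatively semi-ample one
-/

universe u

open CategoryTheory AlgebraicGeometry TopologicalSpace
open Groth.Agent.H23.PicMul

set_option backward.isDefEq.respectTransparency false
set_option backward.isDefEq.respectTransparency.types false

namespace Groth.Agent.AmpleX

open Groth.Agent

variable {X Y : Scheme.{u}} {M : X.Modules}

theorem eq_zero_of_locus_eq_bot [IsReduced X] (hM : PicF.IsInvertible M) {U : X.Opens} (a : Γ(M, U))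
    (h : locus a = ⊥) : a = 0 := by
  refine AModX.eq_of_locally _ _ fun p hp => ?_
  obtain ⟨V₀, hpV₀, e₀, he₀⟩ := InvX.exists_frame hM p
  let V := V₀ ⊓ U
  have he := he₀.res (inf_le_left : V ≤ V₀)
  obtain ⟨c, hc⟩ := he.exists_coord le_rfl (AModX.res M (inf_le_right : V ≤ U) a)
  rw [AModX.res_self] at hc
  have h1 := locus_inf _ _ he hc
  rw [h, bot_inf_eq] at h1
  have hc0 : c = 0 := (basicOpen_eq_bot_iff c).1 h1.symm
  exact ⟨V, inf_le_right, ⟨hpV₀, hp⟩, by rw [map_zero, hc, hc0, zero_smul]⟩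

/-- An epimorphic counit gives local sections not vanishing at a given point. -/
theorem exists_locus_of_epi_counit (f : X ⟶ Y) (hM : PicF.IsInvertible M)
    (hepi : Epi ((Scheme.Modules.pullbackPushforwardAdjunction f).counit.app M)) (x : X) {V : Y.Opens}
    (hV : f x ∈ V) :
    ∃ (V' : Y.Opens) (_ : V' ≤ V) (_ : f x ∈ V') (a : Γ(M, f ⁻¹ᵁ V')), x ∈ locus a := by
  by_contra hcon
  push Not at hcon
  let j := X.fromSpecResidueField x
  let adj := Scheme.Modules.pullbackPushforwardAdjunction j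
  let φ : M ⟶ (Scheme.Modules.pushforward j).obj ((Scheme.Modules.pullback j).obj M) := adj.unit.app M
  have hj : ∀ z, j z = x := fun z => by
    have hz : j z ∈ Set.range j := ⟨z, rfl⟩
    rwa [Scheme.range_fromSpecResidueField] at hz
  have hiM := PicClLib.isInvertible_pullback j hM
  have hφ : (Scheme.Modules.pushforward f).map φ = 0 := by
    refine Scheme.Modules.hom_ext _ _ fun V'' => ?_
    ext a
    show (InvX.pullElt j (show Γ(M, f ⁻¹ᵁ V'') from a) : Γ((Scheme.Modules.pullback j).obj M, j ⁻¹ᵁ (f ⁻¹ᵁ V''))) = 0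
    refine eq_zero_of_locus_eq_bot hiM _ ?_
    rw [locus_pullElt hM, eq_bot_iff]
    intro z hz
    have hz' : x ∈ locus (show Γ(M, f ⁻¹ᵁ V'') from a) := hj z ▸ hz
    have hxV'' : x ∈ f ⁻¹ᵁ V'' := locus_le (show Γ(M, f ⁻¹ᵁ V'') from a) hz'
    refine absurd ?_ (hcon (V'' ⊓ V) inf_le_right ⟨hxV'', hV⟩
      (AModX.res M (f.preimage_mono inf_le_left) a))
    rw [locus_res]
    exact ⟨hz', ⟨hxV'', hV⟩⟩
  have hzero : (Scheme.Modules.pullbackPushforwardAdjunction f).counit.app M ≫ φ = 0 := by
    refine ((Scheme.Modules.pullbackPushforwardAdjunction f).homEquiv _ _).injective ?_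
    rw [Adjunction.homEquiv_unit, Adjunction.homEquiv_unit, Functor.map_comp,
      Adjunction.right_triangle_components_assoc, hφ]
    have h0 : (Scheme.Modules.pushforward f).map
        (0 : (Scheme.Modules.pullback f).obj ((Scheme.Modules.pushforward f).obj M) ⟶
          (Scheme.Modules.pushforward j).obj ((Scheme.Modules.pullback j).obj M)) = 0 := by
      refine Scheme.Modules.hom_ext _ _ fun V'' => ?_
      rfl
    rw [h0]
    exact (Limits.comp_zero).symm
  have hφ0 : φ = 0 := by
    rw [← cancel_epi ((Scheme.Modules.pullbackPushforwardAdjunction f).counit.app M), hzero, Limits.comp_zero]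
  obtain ⟨U, hxU, e, he⟩ := InvX.exists_frame hM x
  have hfr := InvX.isFrame_pullElt j he
  have he0 : InvX.pullElt j e = 0 := by
    show φ.app U e = 0
    rw [hφ0]
    rfl
  have h01 : (1 : Γ(Spec (X.residueField x), j ⁻¹ᵁ U)) = 0 := by
    refine (hfr _ le_rfl).1 ?_
    simp only [AModX.res_self, he0, smul_zero]
  obtain ⟨z⟩ : Nonempty (Spec (X.residueField x)) := inferInstance
  have hz : z ∈ j ⁻¹ᵁ U := by
    show j z ∈ U
    rw [hj]; exact hxU
  rw [← Scheme.basicOpen_of_isUnit (Spec (X.residueField x)) (U := j ⁻¹ᵁ U) isUnit_one, h01,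
    Scheme.basicOpen_zero] at hz
  exact hz

theorem isRelAmple_tensor_of_epi_counit (f : X ⟶ Y) {L L' : X.Modules} (hL : RelAmple.IsRelAmple f L)
    (hL' : PicF.IsInvertible L') {n : ℕ} (hn : 0 < n)
    (hepi : Epi ((Scheme.Modules.pullbackPushforwardAdjunction f).counit.app (CohB1.tensorPow L' n))) :
    RelAmple.IsRelAmple f (CohB1.tensorMod L L') := by
  haveI := hL.1
  haveI : IsSeparated f := isSeparated_of_ampleOn fun x => ampleOn_of_isRelAmple hL (f x)
  have hiL := isInvertible_of_isRelAmple hL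
  refine ⟨hL.1, fun V => isAmple_preimage_of_local (InvX.isInvertible_tensorMod hiL hL') V.2 fun x hx => ?_⟩
  obtain ⟨V', -, hxV', a', ha'⟩ := exists_locus_of_epi_counit f (InvX.isInvertible_tensorPow hL' n) hepi x hx
  obtain ⟨r, hr, hxr⟩ := V.2.exists_basicOpen_le (V := V') ⟨f x, hxV'⟩ hx
  obtain ⟨m, hm, b, hxb, hle, hb⟩ := exists_sections_of_isRelAmple hL (V.2.basicOpen r) (x := x) hxr ha'
  obtain ⟨c, hc⟩ := exists_tensor_section hiL hL' hm hn b (AModX.res _ (f.preimage_mono hr) a')
  refine ⟨r, m * n, Nat.mul_pos hm hn, c, ?_⟩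
  rw [hc, locus_res, inf_eq_left.2 (le_inf hle (locus_le b))]
  exact ⟨hxb, hb⟩

end Groth.Agent.AmpleX
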